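import Cfsg.Agent.L33Rec.Fusion
import Cfsg.Prelude.Def_Transfer

/-!
A group with trivial two-residual quotient and an involution with centralizer `GL(2,3)` is simple.
-/

set_option autoImplicit false

namespace Cfsg.Agent.L33Rec

open Cfsg.Agent.InvolGL23
open Cfsg.Agent.S0197 (emb emb_injective emb_mem exists_emb emb_e emb_eq_z z_sq z_ne SS MM subOf card_subOf)

universe u

/-- The identity and the involutions. -/
def inv1 : Finset Q := els.filter fun q => qmul q q = qone

theorem els_three : ∀ q ∈ els, ∃ a ∈ inv1, ∃ b ∈ inv1, ∃ c ∈ inv1, qmul (qmul a b) c = q := by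
  decide +kernel

theorem odd_core_trivial : ∀ q ∈ els, qpow q 3 = qone → q ≠ qone →
    ∃ g ∈ invols, qpow (qmul q (qmul (qmul g q) g)) 3 ≠ qone := by decide +kernel

/-- The diagonal four group. -/
def four : Finset Q := {qone, qneg, (1, 0, 0, 2), (2, 0, 0, 1)}

set_option synthInstance.maxSize 4000 in
theorem four_facts : four ⊆ els ∧ four.card = 4 ∧ qone ∈ four ∧
    (∀ a ∈ four, ∀ b ∈ four, qmul a b ∈ four ∧ qmul a b = qmul b a) ∧
    (∀ a ∈ four, ∃ b ∈ four, qmul a b = qone) ∧ ∀ a ∈ four, qmul a a = qone := by decide +kernel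

theorem no_index_two {G : Type u} [Group G] [Finite G] (hO : Cfsg.pResidual 2 G = ⊤) :
    ∀ N : Subgroup G, N.Normal → N.index ≠ 2 := by
  intro N _ hN
  have htop : N = ⊤ := by
    rw [eq_top_iff, ← hO, Cfsg.pResidual, Subgroup.closure_le]
    intro g hg
    obtain ⟨m, hm⟩ : Odd (orderOf g) := by
      rw [Nat.odd_iff]
      by_contra h
      have h2 : 2 ∣ orderOf g := by omega
      exact absurd (Nat.eq_one_of_dvd_coprimes hg h2 dvd_rfl) (by norm_num)
    have e : g = g ^ (m + 1) * g ^ (m + 1) := by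
      rw [← pow_add, show m + 1 + (m + 1) = orderOf g + 1 by omega, pow_succ, pow_orderOf_eq_one,
        one_mul]
    rw [SetLike.mem_coe, e]
    exact Subgroup.mul_self_mem_of_index_two hN _
  rw [htop, Subgroup.index_top] at hN
  norm_num at hN

section

variable {G : Type u} [Group G] [Finite G] {z : G}
  (e : Subgroup.centralizer ({z} : Set G) ≃* Matrix.GeneralLinearGroup (Fin 2) (ZMod 3))

local notation "GL23" => Matrix.GeneralLinearGroup (Fin 2) (ZMod 3)

include e in
theorem card_cent : Nat.card (Subgroup.centralizer ({z} : Set G)) = 48 := by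
  rw [Nat.card_congr e.toEquiv, card_gl23]

include e in
/-- A Sylow two-subgroup with its normalizer inside the centralizer. -/
theorem exists_sylow (hz : orderOf z = 2) (h16 : Nat.card G % 32 = 16) :
    ∃ S : Sylow 2 G, (S : Subgroup G) ≤ Subgroup.centralizer ({z} : Set G) ∧
      Subgroup.normalizer ((S : Subgroup G) : Set G) ≤ Subgroup.centralizer ({z} : Set G) := by
  obtain ⟨hsub, -, -, -, -, hns, hsc, -, -⟩ := syl_facts
  set S₀ := SS.map (emb e) with hS₀
  have hS₀c : Nat.card S₀ = 2 ^ 4 := by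
    rw [hS₀, Subgroup.card_map_of_injective (emb_injective e), SS,
      card_subOf _ _ _ _ hsub, hsc]
    norm_num
  obtain ⟨S, hS⟩ := (IsPGroup.of_card hS₀c).exists_le_sylow
  have hC : S₀ ≤ Subgroup.centralizer ({z} : Set G) := by
    rintro _ ⟨g, -, rfl⟩
    exact emb_mem e g
  have hSeq : S₀ = (S : Subgroup G) := by
    refine Subgroup.eq_of_le_of_card_ge hS ?_
    obtain ⟨n, hn⟩ := IsPGroup.iff_card.1 S.isPGroup'
    rw [hn, hS₀c]
    refine Nat.pow_le_pow_right (by norm_num) (by_contra fun h5 => ?_)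
    have h32 : 2 ^ 5 ∣ Nat.card G := (pow_dvd_pow 2 (by omega : 5 ≤ n)).trans
      (hn ▸ Subgroup.card_subgroup_dvd_card _)
    omega
  refine ⟨S, hSeq ▸ hC, ?_⟩
  rw [← hSeq]
  intro x hx
  have hzS : z ∈ S₀ := by
    obtain ⟨a, ha⟩ := toQ_surj (hsub hns)
    exact ⟨a, show toQ a ∈ syl from ha ▸ hns, emb_eq_z e hz ha⟩
  obtain ⟨m, hm, hme⟩ := (Subgroup.mem_normalizer_iff.1 hx z).1 hzS
  have hmz : toQ m = qneg := by
    refine syl_center _ hm ?_ (fun h => ?_) fun b hb => ?_
    · rw [← toQ_mul, ← toQ_one]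
      congr 1
      refine emb_injective e ?_
      rw [map_mul, map_one, hme, show x * z * x⁻¹ * (x * z * x⁻¹) = x * (z * z) * x⁻¹ by group,
        z_sq hz, mul_one, mul_inv_cancel]
    · rw [toQ_injective (h.trans toQ_one.symm), map_one] at hme
      exact z_ne hz (conj_eq_one_iff.1 hme.symm)
    · obtain ⟨b', rfl⟩ := toQ_surj (hsub hb)
      rw [← toQ_mul, ← toQ_mul]
      congr 1
      refine emb_injective e ?_
      rw [map_mul, map_mul, hme]
      have hc := Subgroup.mem_centralizer_singleton_iff.1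
        (hC ((Subgroup.mem_normalizer_iff''.1 hx _).1 ⟨b', hb, rfl⟩))
      calc x * z * x⁻¹ * emb e b' = x * (z * (x⁻¹ * emb e b' * x)) * x⁻¹ := by group
        _ = x * (x⁻¹ * emb e b' * x * z) * x⁻¹ := by rw [hc]
        _ = emb e b' * (x * z * x⁻¹) := by group
  rw [emb_eq_z e hz hmz] at hme
  exact Subgroup.mem_centralizer_singleton_iff.2 (eq_mul_inv_iff_mul_eq.1 hme).symm

include e in
/-- All involutions are conjugate. -/
theorem invol_conjugate (hz : orderOf z = 2) (h16 : Nat.card G % 32 = 16)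
    (hfus : ∀ g : GL23, g * g = 1 → g ≠ 1 → ∃ w, w * z * w⁻¹ = emb e g)
    {x : G} (hx : orderOf x = 2) : ∃ w, w * z * w⁻¹ = x := by
  obtain ⟨S, hSC, -⟩ := exists_sylow e hz h16
  have hp : IsPGroup 2 (Subgroup.zpowers x) :=
    IsPGroup.of_card (n := 1) (by rw [Nat.card_zpowers, hx, pow_one])
  obtain ⟨T, hT⟩ := hp.exists_le_sylow
  obtain ⟨g, hg⟩ := MulAction.exists_smul_eq G T S
  have hgx : g * x * g⁻¹ ∈ (S : Subgroup G) := by
    rw [← hg]
    exact ⟨x, hT (Subgroup.mem_zpowers x), by simp⟩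
  obtain ⟨q, hq⟩ := exists_emb e (hSC hgx)
  obtain ⟨w, hw⟩ := hfus q (emb_injective e (by
      rw [map_mul, map_one, hq, show g * x * g⁻¹ * (g * x * g⁻¹) = g * (x * x) * g⁻¹ by group,
        z_sq hx, mul_one, mul_inv_cancel]))
    (fun h => z_ne hx (conj_eq_one_iff.1 (by rw [← hq, h, map_one] : g * x * g⁻¹ = 1)))
  refine ⟨g⁻¹ * w, ?_⟩
  rw [show g⁻¹ * w * z * (g⁻¹ * w)⁻¹ = g⁻¹ * (w * z * w⁻¹) * g by group, hw, hq]
  group

include e in
theorem inf_cent_eq_bot {N : Subgroup G} (hN : N.Normal) (hodd : ¬ 2 ∣ Nat.card N) :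
    N ⊓ Subgroup.centralizer ({z} : Set G) = ⊥ := by
  rw [eq_bot_iff]
  rintro x ⟨hxN, hxC⟩
  obtain ⟨q, rfl⟩ := exists_emb e hxC
  rw [Subgroup.mem_bot]
  have cube : ∀ k : GL23, emb e k ∈ N → qpow (toQ k) 3 = qone := by
    intro k hk
    rw [← toQ_pow, ← toQ_one]
    congr 1
    apply orderOf_dvd_iff_pow_eq_one.1
    have h1 : orderOf k ∣ Nat.card N := by
      rw [← orderOf_injective (emb e) (emb_injective e) k, ← Subgroup.orderOf_mk _ hk]
      exact orderOf_dvd_natCard _
    have h2 : orderOf k ∣ 48 := card_gl23 ▸ orderOf_dvd_natCard k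
    have h3 : Nat.Coprime (orderOf k) 16 := by
      rw [show (16 : ℕ) = 2 ^ 4 by norm_num]
      exact Nat.Coprime.pow_right _ ((Nat.prime_two.coprime_iff_not_dvd.2
        fun h => hodd (h.trans h1)).symm)
    exact h3.dvd_of_dvd_mul_left (h2.trans (by norm_num))
  by_contra hne
  obtain ⟨g, hg, hg3⟩ := odd_core_trivial _ (toQ_mem q) (cube q hxN) (fun h => hne (by
    rw [toQ_injective (h.trans toQ_one.symm), map_one]))
  obtain ⟨g', rfl⟩ := toQ_surj (Finset.mem_filter.1 hg).1
  have hgg : g' * g' = 1 := toQ_injective (by rw [toQ_mul, (Finset.mem_filter.1 hg).2.1, toQ_one])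
  rw [← toQ_mul, ← toQ_mul, ← toQ_mul] at hg3
  refine hg3 (cube _ ?_)
  rw [map_mul, map_mul, map_mul]
  refine N.mul_mem hxN ?_
  have := hN.conj_mem _ hxN (emb e g')
  rwa [← map_inv, inv_eq_of_mul_eq_one_right hgg] at this

include e in
/-- The group is simple. -/
theorem isSimpleGroup (hG2 : ∀ N : Subgroup G, N.Normal → N.index ≠ 2) (hz : orderOf z = 2) :
    IsSimpleGroup G := by
  classical
  obtain ⟨h16, hfus⟩ := fusion e hG2 hz
  have : Nontrivial G := ⟨⟨z, 1, z_ne hz⟩⟩
  refine ⟨fun N hN => ?_⟩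
  have : Fact (Nat.Prime 2) := ⟨Nat.prime_two⟩
  by_cases h2 : 2 ∣ Nat.card N
  · right
    obtain ⟨x, hx⟩ := exists_prime_orderOf_dvd_card' 2 h2
    have hxG : orderOf (x : G) = 2 := by rw [Subgroup.orderOf_coe, hx]
    obtain ⟨w, hw⟩ := invol_conjugate e hz h16 hfus hxG
    have hzN : z ∈ N := by
      have := hN.conj_mem _ (hw ▸ x.2 : w * z * w⁻¹ ∈ N) w⁻¹
      rwa [show w⁻¹ * (w * z * w⁻¹) * w⁻¹⁻¹ = z by group] at this
    have hCN : Subgroup.centralizer ({z} : Set G) ≤ N := by
      intro c hc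
      obtain ⟨q, rfl⟩ := exists_emb e hc
      have hinv : ∀ a ∈ inv1, ∀ g : GL23, toQ g = a → emb e g ∈ N := by
        intro a ha g hg
        by_cases h1 : g = 1
        · rw [h1, map_one]; exact N.one_mem
        · obtain ⟨v, hv⟩ := hfus g (toQ_injective (by
            rw [toQ_mul, toQ_one, hg]; exact (Finset.mem_filter.1 ha).2)) h1
          exact hv ▸ hN.conj_mem _ hzN v
      obtain ⟨a, ha, b, hb, c', hc', he⟩ := els_three _ (toQ_mem q)
      obtain ⟨a', rfl⟩ := toQ_surj (Finset.mem_filter.1 ha).1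
      obtain ⟨b', rfl⟩ := toQ_surj (Finset.mem_filter.1 hb).1
      obtain ⟨c'', rfl⟩ := toQ_surj (Finset.mem_filter.1 hc').1
      rw [← toQ_mul, ← toQ_mul] at he
      rw [← toQ_injective he, map_mul, map_mul]
      exact N.mul_mem (N.mul_mem (hinv _ ha _ rfl) (hinv _ hb _ rfl)) (hinv _ hc' _ rfl)
    obtain ⟨S, hSC, hNS⟩ := exists_sylow e hz h16
    have htop := Sylow.normalizer_sup_eq_top' S (hSC.trans hCN)
    exact le_antisymm le_top (htop.ge.trans (sup_le (hNS.trans hCN) le_rfl))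
  · left
    obtain ⟨hfs, hfc, hf1, hfm, hfi, hf2⟩ := four_facts
    set A := (subOf four hf1 (fun a ha b hb => (hfm a ha b hb).1) hfi).map (emb e) with hA
    have hAmem : ∀ a ∈ A, a * a = 1 ∧ (a ≠ 1 → orderOf a = 2) := by
      rintro _ ⟨g, hg, rfl⟩
      have h : emb e g * emb e g = 1 := by
        rw [← map_mul, show g * g = 1 from toQ_injective (by rw [toQ_mul, toQ_one]; exact hf2 _ hg),
          map_one]
      exact ⟨h, fun hne => orderOf_eq_prime (by rw [sq, h]) hne⟩
    have : IsMulCommutative A := by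
      constructor
      constructor
      rintro ⟨_, g, hg, rfl⟩ ⟨_, k, hk, rfl⟩
      refine Subtype.ext ?_
      show emb e g * emb e k = emb e k * emb e g
      rw [← map_mul, ← map_mul]
      congr 1
      exact toQ_injective (by rw [toQ_mul, toQ_mul]; exact (hfm _ hg _ hk).2)
    have hAc : Nat.card A = 4 := by
      rw [hA, Subgroup.card_map_of_injective (emb_injective e), card_subOf _ _ _ _ hfs, hfc]
    have hnc : ¬ IsCyclic A := by
      intro h
      obtain ⟨a, ha⟩ := h.exists_ofOrder_eq_natCard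
      rw [hAc] at ha
      have h4 : a ^ 2 = 1 := Subtype.ext (by
        show ((a ^ 2 : A) : G) = 1
        rw [SubgroupClass.coe_pow, sq]
        exact (hAmem _ a.2).1)
      have := orderOf_dvd_of_pow_eq_one h4
      rw [ha] at this
      norm_num at this
    have hcop : (Nat.card A).Coprime (Nat.card N) := by
      rw [hAc, show (4 : ℕ) = 2 ^ 2 by norm_num]
      exact Nat.Coprime.pow_left _ (Nat.prime_two.coprime_iff_not_dvd.2 h2)
    have hnorm : A ≤ Subgroup.normalizer (N : Set G) := by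
      rw [Subgroup.normalizer_eq_top]
      exact le_top
    rw [← Coprime.iSup_centralizer_eq hnc hnorm hcop, eq_bot_iff]
    refine iSup₂_le fun a ha => ?_
    obtain ⟨w, hw⟩ := invol_conjugate e hz h16 hfus ((hAmem a ha.1).2 ha.2)
    rintro x ⟨hxN, hxC⟩
    have hm : w⁻¹ * x * w ∈ N ⊓ Subgroup.centralizer ({z} : Set G) := by
      refine ⟨by simpa using hN.conj_mem _ hxN w⁻¹, Subgroup.mem_centralizer_singleton_iff.2 ?_⟩
      have := Subgroup.mem_centralizer_singleton_iff.1 hxC
      rw [← hw] at this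
      calc w⁻¹ * x * w * z = w⁻¹ * (x * (w * z * w⁻¹)) * w := by group
        _ = w⁻¹ * ((w * z * w⁻¹) * x) * w := by rw [this]
        _ = z * (w⁻¹ * x * w) := by group
    rw [inf_cent_eq_bot e hN h2, Subgroup.mem_bot] at hm
    rw [Subgroup.mem_bot]
    calc x = w * (w⁻¹ * x * w) * w⁻¹ := by group
      _ = 1 := by rw [hm]; group

end

end Cfsg.Agent.L33Rec
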