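import Cfsg.Agent.L33Rec.CentThree

/-!
An element of order three fixed by one reflection and inverted by the central involution.
-/

set_option autoImplicit false

namespace Cfsg.Agent.L33Rec

open Cfsg.Agent.InvolGL23
open Cfsg.Agent.S0197 (emb emb_injective emb_mem exists_emb emb_e emb_eq_z z_sq z_ne)

universe u

section

variable {G : Type u} [Group G] [Finite G] {z : G}
  (e : Subgroup.centralizer ({z} : Set G) ≃* Matrix.GeneralLinearGroup (Fin 2) (ZMod 3))

local notation "GL23" => Matrix.GeneralLinearGroup (Fin 2) (ZMod 3)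

theorem inv_conj_pow {M : Type*} [Group M] {v : M} (hv : v * v = 1) (g : M) (n : ℕ) :
    (v * g * v) ^ n = v * g ^ n * v := by
  have h : v⁻¹ = v := inv_eq_of_mul_eq_one_right hv
  calc (v * g * v) ^ n = (v * g * v⁻¹) ^ n := by rw [h]
    _ = v * g ^ n * v⁻¹ := conj_pow
    _ = v * g ^ n * v := by rw [h]

theorem card_inf_cent_le {K : Subgroup G} {n : ℕ} (hK : Nat.card K = 3 ^ n) {v : G}
    (hv : Nat.card (Subgroup.centralizer ({v} : Set G)) = 48) :
    Nat.card (K ⊓ Subgroup.centralizer ({v} : Set G) : Subgroup G) ∣ 3 := by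
  have h1 := Subgroup.card_dvd_of_le (inf_le_left : K ⊓ Subgroup.centralizer ({v} : Set G) ≤ K)
  have h2 := Subgroup.card_dvd_of_le (inf_le_right : K ⊓ Subgroup.centralizer ({v} : Set G) ≤ _)
  rw [hK] at h1
  rw [hv] at h2
  obtain ⟨j, -, hj⟩ := (Nat.dvd_prime_pow Nat.prime_three).1 h1
  rw [hj] at h2 ⊢
  have hj1 : j ≤ 1 := by
    by_contra hlt
    exact absurd ((pow_dvd_pow 3 (by omega : 2 ≤ j)).trans h2) (by norm_num)
  exact (pow_dvd_pow 3 hj1).trans (by norm_num)

include e in
theorem exists_fixed [IsSimpleGroup G] (hz : orderOf z = 2) (hG : Nat.card G = 5616)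
    (hfus : ∀ g : GL23, g * g = 1 → g ≠ 1 → ∃ w, w * z * w⁻¹ = emb e g)
    {q s : Q} (hp : Pair q s) {Y S : GL23} (hY : toQ Y = q) (hS : toQ S = s) :
    ∃ d : G, d ≠ 1 ∧ d ^ 3 = 1 ∧ Commute d (emb e Y) ∧ Commute d (emb e S) ∧
      z * d * z = d⁻¹ := by
  classical
  have : Fact (Nat.Prime 3) := ⟨Nat.prime_three⟩
  have h16 : Nat.card G % 32 = 16 := by rw [hG]
  obtain ⟨i, hi, hcard⟩ := card_cent_three e hz hG hp hY
  set y := emb e Y with hy
  set σ := emb e S with hσ
  set C := Subgroup.centralizer ({y} : Set G) with hC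
  have memC : ∀ {g : G}, g ∈ C ↔ g * y = y * g := Subgroup.mem_centralizer_singleton_iff
  have hz2 : z * z = 1 := z_sq hz
  have hzinv : z⁻¹ = z := inv_eq_of_mul_eq_one_right hz2
  have hs2 : σ * σ = 1 := by
    rw [hσ, ← map_mul, show S * S = 1 from toQ_injective (by rw [toQ_mul, toQ_one, hS]; exact hp.sq),
      map_one]
  have hsinv : σ⁻¹ = σ := inv_eq_of_mul_eq_one_right hs2
  have hsz : σ * z = z * σ := Subgroup.mem_centralizer_singleton_iff.1 (emb_mem e S)
  have hyz : y * z = z * y := Subgroup.mem_centralizer_singleton_iff.1 (emb_mem e Y)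
  have hsy : σ * y * σ = y * y := by
    rw [hσ, hy, ← map_mul, ← map_mul, ← map_mul,
      show S * Y * S = Y * Y from toQ_injective (by rw [toQ_mul, toQ_mul, toQ_mul, hY, hS]; exact hp.inv)]
  have hy1 : y ≠ 1 := fun h => hp.ne (by
    rw [← hY, show Y = 1 from emb_injective e (by rw [map_one]; exact h), toQ_one])
  have hy3 : y ^ 3 = 1 := by
    rw [hy, ← map_pow, show Y ^ 3 = 1 from toQ_injective (by
      rw [pow_three, toQ_mul, toQ_mul, toQ_one, hY]; exact hp.cube), map_one]
  have hyC : y ∈ C := memC.2 rfl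
  have hzC : z ∈ C := memC.2 hyz.symm
  have hσord : orderOf σ = 2 := orderOf_eq_prime (by rw [sq, hs2]) fun h => hp.ne_s.1 (by
    rw [← hS, show S = 1 from emb_injective e (by rw [map_one]; exact h), toQ_one])
  have hσne : σ ≠ z := fun h => hp.ne_s.2 (by
    obtain ⟨n, hn⟩ := toQ_surj qneg_central.1
    rw [← hS, show S = n from emb_injective e (h.trans (emb_eq_z e hz hn).symm), hn])
  have hτord : orderOf (σ * z) = 2 := orderOf_eq_prime
    (by rw [sq, mul_assoc, ← mul_assoc z, ← hsz, mul_assoc σ, hz2, mul_one, hs2])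
    fun h => hσne (by rw [← hzinv]; exact eq_inv_of_mul_eq_one_left h)
  have hcardv : ∀ {v : G}, orderOf v = 2 →
      Nat.card (Subgroup.centralizer ({v} : Set G)) = 48 := by
    intro v hv
    obtain ⟨w, rfl⟩ := invol_conjugate e hz h16 hfus hv
    rw [heavy_conj, card_cent e]
  -- the three-part of the centralizer
  obtain ⟨T⟩ := (inferInstance : Nonempty (Sylow 3 C))
  have hTc : Nat.card T = 3 ^ (i + 1) := by
    rw [T.card_eq_multiplicity, hcard, show 6 * 3 ^ i = 3 ^ (i + 1) * 2 by ring,
      Nat.factorization_mul (by positivity) (by norm_num), Nat.Prime.factorization_pow Nat.prime_three]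
    simp [Nat.factorization_eq_zero_of_not_dvd (show ¬ 3 ∣ 2 by norm_num)]
  have hTi : (T : Subgroup C).index = 2 := by
    have h := (T : Subgroup C).card_mul_index
    rw [show Nat.card (T : Subgroup C) = _ from hTc, hcard] at h
    refine Nat.eq_of_mul_eq_mul_left (by positivity : 0 < 3 ^ (i + 1)) (h.trans ?_)
    ring
  set K := (T : Subgroup C).map C.subtype with hK
  have hKc : Nat.card K = 3 ^ (i + 1) := by
    rw [hK, Subgroup.card_map_of_injective C.subtype_injective]
    exact hTc
  have hKC : K ≤ C := by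
    rintro _ ⟨c, -, rfl⟩
    exact c.2
  have memK : ∀ {x : G}, x ∈ C → x ^ 27 = 1 → x ∈ K := by
    intro x hx h27
    refine ⟨⟨x, hx⟩, ?_, rfl⟩
    have h := Subgroup.mul_self_mem_of_index_two hTi ((⟨x, hx⟩ : C) ^ 14)
    rwa [← pow_add, show 14 + 14 = 27 + 1 by norm_num, pow_succ,
      show (⟨x, hx⟩ : C) ^ 27 = 1 from Subtype.ext h27, one_mul] at h
  have pow27 : ∀ {x : G}, x ∈ K → x ^ 27 = 1 := by
    intro x hx
    apply orderOf_dvd_iff_pow_eq_one.1
    rw [← Subgroup.orderOf_mk x hx]
    refine (orderOf_dvd_natCard _).trans ?_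
    rw [hKc, show 27 = 3 ^ 3 by norm_num]
    exact pow_dvd_pow 3 (by omega)
  have hyK : y ∈ K := memK hyC (by rw [show 27 = 3 * 9 by norm_num, pow_mul, hy3, one_pow])
  have hconjz : ∀ {x : G}, x ∈ K → z * x * z ∈ K := by
    intro x hx
    refine memK (C.mul_mem (C.mul_mem hzC (hKC hx)) hzC) ?_
    calc (z * x * z) ^ 27 = z * x ^ 27 * z⁻¹ := by rw [← conj_pow, hzinv]
      _ = 1 := by rw [pow27 hx, mul_one, mul_inv_cancel]
  have hconjs : ∀ {x : G}, x ∈ K → σ * x * σ ∈ K := by
    intro x hx
    refine memK (memC.2 ?_) ?_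
    · have h2 : Commute x (y * y) := (show Commute x y from memC.1 (hKC hx)).mul_right (memC.1 (hKC hx))
      calc σ * x * σ * y = σ * x * (σ * y * σ) * σ := by
            rw [mul_assoc _ σ y, mul_assoc (σ * x), mul_assoc (σ * y), hs2, mul_one]
        _ = σ * (y * y * x) * σ := by rw [hsy, mul_assoc σ x, h2.eq]
        _ = y * (σ * x * σ) := by
          rw [← hsy]
          simp only [← mul_assoc, hs2, one_mul]
    · calc (σ * x * σ) ^ 27 = σ * x ^ 27 * σ⁻¹ := by rw [← conj_pow, hsinv]
        _ = 1 := by rw [pow27 hx, mul_one, mul_inv_cancel]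
  have zfix : ∀ {x : G}, x ∈ C → x ^ 27 = 1 → x * z = z * x → x = 1 ∨ x = y ∨ x = y * y := by
    intro x hx h27 hxz
    obtain ⟨X, rfl⟩ := exists_emb e (Subgroup.mem_centralizer_singleton_iff.2 hxz)
    have hX3 : X ^ 3 = 1 := by
      refine orderOf_dvd_iff_pow_eq_one.1 ((Nat.dvd_gcd (orderOf_dvd_of_pow_eq_one ?_)
        (card_gl23 ▸ orderOf_dvd_natCard X)).trans (by norm_num : Nat.gcd 27 48 ∣ 3))
      exact emb_injective e (by rw [map_pow, map_one]; exact h27)
    have hc := memC.1 hx
    rw [hy, ← map_mul, ← map_mul] at hc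
    rcases hp.powers _ (toQ_mem X) (by rw [← hY, ← toQ_mul, ← toQ_mul, emb_injective e hc])
      (by rw [← toQ_mul, ← toQ_mul, ← pow_three, hX3, toQ_one]) with h | h | h
    · left; rw [toQ_injective (h.trans toQ_one.symm), map_one]
    · right; left; rw [toQ_injective (h.trans hY.symm)]
    · right; right
      rw [hy, ← map_mul, toQ_injective (h.trans (by rw [toQ_mul, hY]))]
  -- the case `i = 2`
  rcases (show i = 2 ∨ i ≤ 1 by omega) with rfl | hi1
  · have hd : ∃ d : G, d ∈ K ∧ d ≠ 1 ∧ Commute d σ := by
      by_contra hno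
      push Not at hno
      let φ : K →* K :=
        { toFun := fun k => ⟨σ * k * σ, hconjs k.2⟩
          map_one' := Subtype.ext (by simp [hs2])
          map_mul' := fun a b => Subtype.ext (by
            show σ * ((a : G) * b) * σ = σ * a * σ * (σ * b * σ)
            simp only [mul_assoc, ← mul_assoc σ σ, hs2, one_mul]) }
      have hfp : MonoidHom.FixedPointFree φ := by
        intro k hk
        by_contra hne
        refine hno k k.2 (fun h => hne (Subtype.ext h)) ?_
        have h := congrArg Subtype.val hk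
        change σ * k * σ = k at h
        show (k : G) * σ = σ * k
        conv_lhs => rw [← h]
        rw [mul_assoc _ σ σ, hs2, mul_one]
      have hinvol : Function.Involutive φ := fun k => Subtype.ext (by
        show σ * (σ * k * σ) * σ = k
        simp only [mul_assoc, hs2, mul_one]
        rw [← mul_assoc, hs2, one_mul])
      have hcomm := hfp.commute_all_of_involutive hinvol
      have hinv : ∀ k ∈ K, σ * k * σ = k⁻¹ := fun k hk =>
        congrArg Subtype.val (congrFun (hfp.coe_eq_inv_of_involutive hinvol) ⟨k, hk⟩)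
      set B := K ⊓ Subgroup.centralizer ({σ * z} : Set G) with hB
      have hBle : Nat.card B ≤ 3 :=
        Nat.le_of_dvd (by norm_num) (card_inf_cent_le hKc (hcardv hτord))
      have key : ∀ k : K, ∃ p : Fin 3 × B, (k : G) * k = y ^ (p.1 : ℕ) * (p.2 : G) := by
        intro k
        have ht : z * (k : G) * z ∈ K := hconjz k.2
        have hc : (k : G) * (z * k * z) = z * k * z * k := congrArg Subtype.val (hcomm k ⟨_, ht⟩).eq
        have ha : (k : G) * (z * k * z) * z = z * ((k : G) * (z * k * z)) := by
          conv_rhs => rw [hc]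
          simp only [mul_assoc, hz2, mul_one, ← mul_assoc z z, one_mul]
        have hbmem : (k : G) * (z * k * z)⁻¹ ∈ B := by
          refine ⟨K.mul_mem k.2 (K.inv_mem ht), Subgroup.mem_centralizer_singleton_iff.2 ?_⟩
          set b := (k : G) * (z * k * z)⁻¹ with hb
          have hbz : z * b * z = b⁻¹ := by
            rw [hb]
            simp only [mul_inv_rev, inv_inv, hzinv, mul_assoc]
            simp only [← mul_assoc z z, hz2, one_mul, mul_one]
          have hbs : σ * b * σ = b⁻¹ := hinv b (K.mul_mem k.2 (K.inv_mem ht))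
          have h1 : z * b = b⁻¹ * z := by
            rw [← hbz, mul_assoc _ z z, hz2, mul_one]
          have h2 : σ * b⁻¹ = b * σ := by
            have := congrArg (fun g => g⁻¹) hbs
            simp only [mul_inv_rev, hsinv, inv_inv] at this
            calc σ * b⁻¹ = σ * b⁻¹ * σ * σ := by rw [mul_assoc _ σ σ, hs2, mul_one]
              _ = b * σ := by rw [show σ * b⁻¹ * σ = b by rw [mul_assoc]; exact this]
          calc b * (σ * z) = σ * b⁻¹ * z := by rw [h2]; exact (mul_assoc b σ z).symm
            _ = σ * z * b := by rw [mul_assoc σ z b, h1, mul_assoc σ b⁻¹ z]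
        have hprod : (k : G) * k = (k : G) * (z * k * z) * ((k : G) * (z * k * z)⁻¹) := by
          rw [show (k : G) * (z * k * z) * ((k : G) * (z * k * z)⁻¹)
              = (k : G) * (z * k * z * k) * (z * k * z)⁻¹ by group, ← hc]
          group
        rcases zfix (hKC (K.mul_mem k.2 ht)) (pow27 (K.mul_mem k.2 ht)) ha with h | h | h
        · exact ⟨(0, ⟨_, hbmem⟩), by rw [hprod, h]; simp⟩
        · exact ⟨(1, ⟨_, hbmem⟩), by rw [hprod, h]; simp⟩
        · exact ⟨(2, ⟨_, hbmem⟩), by rw [hprod, h]; simp [pow_two]⟩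
      choose f hf using key
      have hinj : Function.Injective f := by
        intro a b hab
        have h2 : a * a = b * b := Subtype.ext (by
          show (a : G) * a = (b : G) * b
          rw [hf a, hf b, hab])
        have hodd : ∀ c : K, c = (c * c) ^ 14 := fun c => Subtype.ext (by
          show (c : G) = ((c : G) * c) ^ 14
          rw [← sq, ← pow_mul, show 2 * 14 = 27 + 1 by norm_num, pow_succ, pow27 c.2, one_mul])
        rw [hodd a, h2, ← hodd b]
      have := Nat.card_le_card_of_injective f hinj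
      rw [hKc, Nat.card_prod, Nat.card_fin] at this
      omega
    obtain ⟨d, hdK, hd1, hdσ⟩ := hd
    set B := K ⊓ Subgroup.centralizer ({σ} : Set G) with hB
    have hdB : d ∈ B := ⟨hdK, Subgroup.mem_centralizer_singleton_iff.2 hdσ.eq⟩
    have hdne : (⟨d, hdB⟩ : B) ≠ 1 := fun h => hd1 (congrArg Subtype.val h)
    have hB3 : Nat.card B = 3 :=
      ((Nat.dvd_prime Nat.prime_three).1 (card_inf_cent_le hKc (hcardv hσord))).resolve_left
        fun h => hd1 (Subgroup.mem_bot.1 (((Subgroup.eq_bot_iff_card B).2 h).le hdB))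
    have hd3 : d ^ 3 = 1 := by
      have := hB3 ▸ pow_card_eq_one' (x := (⟨d, hdB⟩ : B))
      exact congrArg Subtype.val this
    have htd : z * d * z ∈ B := ⟨hconjz hdK, Subgroup.mem_centralizer_singleton_iff.2 (by
      calc z * d * z * σ = z * (d * σ) * z := by rw [mul_assoc _ z σ, ← hsz]; group
        _ = z * (σ * d) * z := by rw [hdσ.eq]
        _ = σ * (z * d * z) := by rw [← mul_assoc z σ, ← hsz]; group)⟩
    have hgen : Subgroup.zpowers (⟨d, hdB⟩ : B) = ⊤ :=
      zpowers_eq_top_of_prime_card hB3 hdne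
    have hmem := hgen ▸ Subgroup.mem_top (⟨_, htd⟩ : B)
    obtain ⟨n, hn, hn'⟩ : ∃ n < 3, z * d * z = d ^ n := by
      rw [← (isOfFinOrder_of_finite (⟨d, hdB⟩ : B)).mem_powers_iff_mem_zpowers,
        Submonoid.mem_powers_iff] at hmem
      obtain ⟨n, hn⟩ := hmem
      refine ⟨n % 3, Nat.mod_lt _ (by norm_num), ?_⟩
      rw [← pow_eq_pow_mod n hd3]
      exact (congrArg Subtype.val hn).symm
    refine ⟨d, hd1, hd3, memC.1 (hKC hdK), hdσ, ?_⟩
    interval_cases n
    · exfalso
      refine hd1 ?_
      calc d = z * (z * d * z) * z := by simp only [mul_assoc, hz2, mul_one, ← mul_assoc z z, one_mul]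
        _ = 1 := by rw [hn', pow_zero, mul_one, hz2]
    · exfalso
      rw [pow_one] at hn'
      have hdz : d * z = z * d := by
        conv_lhs => rw [← hn']
        rw [mul_assoc _ z z, hz2, mul_one]
      have hyy : y ≠ y * y := fun h => hy1 (mul_eq_left.1 h.symm)
      rcases zfix (hKC hdK) (pow27 hdK) hdz with h | h | h
      · exact hd1 h
      · rw [h] at hdσ
        refine hyy ?_
        rw [← hsy, ← hdσ.eq, mul_assoc, hs2, mul_one]
      · rw [h] at hdσ
        refine hyy ?_
        have h4 : σ * (y * y) * σ = y * y * (y * y) := by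
          conv_rhs => rw [← hsy]
          simp only [mul_assoc, ← mul_assoc σ σ, hs2, one_mul]
        rw [← hdσ.eq, mul_assoc _ σ σ, hs2, mul_one] at h4
        have h5 : y * y = 1 := mul_eq_left.1 h4.symm
        exfalso
        exact hy1 (by rw [← hy3, pow_three, h5, mul_one])
    · rw [hn', eq_inv_iff_mul_eq_one, ← pow_succ, hd3]
  -- the smaller cases are impossible
  · exfalso
    obtain ⟨P, hP⟩ := (IsPGroup.of_card hKc).exists_le_sylow
    have hPc : Nat.card P = 27 := by
      rw [P.card_eq_multiplicity, hG, show 5616 = 3 ^ 3 * 208 by norm_num,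
        Nat.factorization_mul (by norm_num) (by norm_num), Nat.Prime.factorization_pow Nat.prime_three]
      simp [Nat.factorization_eq_zero_of_not_dvd (show ¬ 3 ∣ 208 by norm_num)]
    have hnP : ¬ ((P : Subgroup G) ≤ C) := fun h => by
      have := Subgroup.card_dvd_of_le h
      rw [show Nat.card (P : Subgroup G) = 27 from hPc, hcard] at this
      interval_cases i <;> norm_num at this
    have : Nontrivial (P : Subgroup G) :=
      Finite.one_lt_card_iff_nontrivial.1 (show 1 < Nat.card (P : Subgroup G) by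
        rw [show Nat.card (P : Subgroup G) = 27 from hPc]; norm_num)
    have hZn := P.isPGroup'.center_nontrivial
    have h3 : 3 ∣ Nat.card (Subgroup.center (P : Subgroup G)) := by
      obtain ⟨n, hn, h⟩ := (P.isPGroup'.to_subgroup _).nontrivial_iff_card.1 hZn
      rw [h]; exact dvd_pow_self 3 hn.ne'
    obtain ⟨u0, hu0⟩ := exists_prime_orderOf_dvd_card' 3 h3
    set x : G := ((u0 : (P : Subgroup G)) : G) with hx
    have hxord : orderOf x = 3 := by rw [hx, Subgroup.orderOf_coe, Subgroup.orderOf_coe, hu0]
    have hx3 : x ^ 3 = 1 := hxord ▸ pow_orderOf_eq_one x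
    have hxcomm : ∀ g ∈ (P : Subgroup G), g * x = x * g := fun g hg =>
      congrArg Subtype.val (Subgroup.mem_center_iff.1 u0.2 ⟨g, hg⟩)
    have hxC : x ∈ C := memC.2 (hxcomm y (hP hyK)).symm
    have hxK : x ∈ K := memK hxC (by rw [show 27 = 3 * 9 by norm_num, pow_mul, hx3, one_pow])
    have hxy : ∀ a : ℕ, x ≠ y ^ a := by
      intro a ha
      refine hnP fun g hg => memC.2 ?_
      have hay : ∃ b, y = x ^ b := by
        rw [pow_eq_pow_mod a hy3] at ha
        have : a % 3 < 3 := Nat.mod_lt _ (by norm_num)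
        interval_cases h : a % 3
        · rw [pow_zero] at ha
          rw [ha, orderOf_one] at hxord
          norm_num at hxord
        · exact ⟨1, by rw [ha, pow_one, pow_one]⟩
        · exact ⟨2, by rw [ha, ← pow_mul, show 2 * 2 = 3 + 1 by norm_num, pow_succ, hy3, one_mul]⟩
      obtain ⟨b, hb⟩ := hay
      rw [hb]
      exact ((show Commute g x from hxcomm g hg).pow_right b).eq
    have hnx : ∀ (a : ℕ) {c : ℕ}, c % 3 ≠ 0 → y ^ a ≠ x ^ c := by
      intro a c hc h
      rw [pow_eq_pow_mod c hx3] at h
      have : c % 3 < 3 := Nat.mod_lt _ (by norm_num)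
      interval_cases hc' : c % 3
      · exact hc rfl
      · exact hxy a (by rw [h, pow_one])
      · exact hxy (a * 2) (by rw [pow_mul, h, ← pow_mul, show 2 * 2 = 3 + 1 by norm_num, pow_succ, hx3, one_mul])
    have hxyc : Commute x y := memC.1 hxC
    let f : Fin 3 × Fin 3 → K := fun p =>
      ⟨y ^ (p.1 : ℕ) * x ^ (p.2 : ℕ), K.mul_mem (K.pow_mem hyK _) (K.pow_mem hxK _)⟩
    have hinj : Function.Injective f := by
      rintro ⟨a, b⟩ ⟨c, d⟩ h
      have h' : y ^ (a : ℕ) * x ^ (b : ℕ) = y ^ (c : ℕ) * x ^ (d : ℕ) := congrArg Subtype.val h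
      have e1 : y ^ ((a : ℕ) + (3 - c)) = x ^ ((d : ℕ) + (3 - b)) := by
        calc y ^ ((a : ℕ) + (3 - c)) = y ^ (3 - (c : ℕ)) * (y ^ (a : ℕ) * x ^ (b : ℕ)) * x ^ (3 - (b : ℕ)) := by
              rw [mul_assoc, mul_assoc, ← pow_add x, show (b : ℕ) + (3 - b) = 3 by omega, hx3,
                mul_one, ← pow_add, add_comm]
          _ = x ^ ((d : ℕ) + (3 - b)) := by
              rw [h', ← mul_assoc, ← pow_add y, show 3 - (c : ℕ) + c = 3 by omega, hy3, one_mul,
                ← pow_add]
      have hbd : b = d := by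
        by_contra hbd
        exact hnx _ (by have := Fin.val_ne_of_ne hbd; omega) e1
      subst hbd
      refine Prod.ext (Fin.ext ?_) rfl
      have hy3' : orderOf y = 3 := orderOf_eq_prime hy3 hy1
      have h5 := pow_injOn_Iio_orderOf (x := y) (show (a : ℕ) ∈ Set.Iio (orderOf y) by
        rw [hy3']; exact a.2) (show (c : ℕ) ∈ Set.Iio (orderOf y) by rw [hy3']; exact c.2)
        (mul_right_cancel h')
      exact h5
    have hle := Nat.card_le_card_of_injective f hinj
    rw [Nat.card_prod, Nat.card_fin, hKc] at hle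
    interval_cases i
    · norm_num at hle
    have hsurj : ∀ k ∈ K, ∃ a < 3, ∃ b < 3, k = y ^ a * x ^ b := by
      intro k hk
      obtain ⟨p, hp'⟩ := ((Nat.bijective_iff_injective_and_card f).2
        ⟨hinj, by rw [Nat.card_prod, Nat.card_fin, hKc]; rfl⟩).2 ⟨k, hk⟩
      exact ⟨p.1, p.1.2, p.2, p.2.2, (congrArg Subtype.val hp').symm⟩
    -- `x` has a larger centralizer than `y`
    have hC18 : Nat.card C = 18 := by rw [hcard]; norm_num
    have hnot : ∀ g : G, g * y * g⁻¹ ≠ x ∧ g * y * g⁻¹ ≠ x ^ 2 := by
      intro g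
      have h27 : 27 ∣ Nat.card (Subgroup.centralizer ({x} : Set G)) := by
        rw [← show Nat.card (P : Subgroup G) = 27 from hPc]
        exact Subgroup.card_dvd_of_le fun g hg => Subgroup.mem_centralizer_singleton_iff.2 (hxcomm g hg)
      constructor <;> intro h
      · rw [← h, heavy_conj, ← hC, hC18] at h27
        norm_num at h27
      · rw [← heavy_sq hx3, ← h, heavy_conj, ← hC, hC18] at h27
        norm_num at h27
    have hlight : ∀ v : G, orderOf v = 2 → ¬ Commute x v := by
      intro v hv hxv
      obtain ⟨g, hg⟩ := exists_conj_of_commute e hz hG hfus hp hY hx3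
        (fun h => hxy 0 (by rw [h, pow_zero])) hv hxv
      exact (hnot g).1 hg
    obtain ⟨a, ha, b, hb, hab⟩ := hsurj _ (hconjz hxK)
    have hyzc : z * y * z = y := by rw [← hyz, mul_assoc, hz2, mul_one]
    have hxx : x = z * (z * x * z) * z := by simp only [mul_assoc, hz2, mul_one, ← mul_assoc z z, one_mul]
    interval_cases b
    · refine hxy a ?_
      rw [hxx, hab, pow_zero, mul_one]
      calc z * y ^ a * z = z * y ^ a * z⁻¹ := by rw [hzinv]
        _ = (z * y * z⁻¹) ^ a := (conj_pow).symm
        _ = y ^ a := by rw [hzinv, hyzc]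
    · rw [pow_one] at hab
      have ha2 : y ^ (a + a) * x = x := by
        conv_rhs => rw [hxx, hab]
        calc y ^ (a + a) * x = y ^ a * (z * x * z) := by rw [hab, pow_add, mul_assoc]
          _ = (z * y * z) ^ a * (z * x * z) := by rw [hyzc]
          _ = z * (y ^ a * x) * z := by
            rw [inv_conj_pow hz2]
            simp only [mul_assoc, ← mul_assoc z z, hz2, one_mul]
      have hya : y ^ (a + a) = 1 := mul_eq_right.1 ha2
      have hdvd := orderOf_dvd_of_pow_eq_one hya
      rw [orderOf_eq_prime hy3 hy1] at hdvd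
      have ha0 : a = 0 := by omega
      rw [ha0, pow_zero, one_mul] at hab
      refine hlight z hz ?_
      show x * z = z * x
      conv_lhs => rw [← hab]
      rw [mul_assoc _ z z, hz2, mul_one]
    · by_cases ha0 : a = 0
      · rw [ha0, pow_zero, one_mul] at hab
        obtain ⟨c, hc, d, hd, hcd⟩ := hsurj _ (hconjs hxK)
        have hzx2 : z * (y ^ c * x ^ d) * z = y ^ c * x ^ (2 * d) := by
          calc z * (y ^ c * x ^ d) * z = (z * y * z) ^ c * (z * x * z) ^ d := by
                rw [inv_conj_pow hz2, inv_conj_pow hz2]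
                simp only [mul_assoc, ← mul_assoc z z, hz2, one_mul]
            _ = _ := by rw [hyzc, hab, ← pow_mul]
        have hsx2 : z * (σ * x * σ) * z = (y ^ c * x ^ d) ^ 2 := by
          calc z * (σ * x * σ) * z = (z * σ) * x * (σ * z) := by group
            _ = (σ * z) * x * (z * σ) := by rw [← hsz]
            _ = σ * (z * x * z) * σ := by group
            _ = (y ^ c * x ^ d) ^ 2 := by rw [hab, ← hcd, inv_conj_pow hs2]
        rw [hcd, hzx2] at hsx2
        have hc0 : y ^ c = 1 := by
          rw [(hxyc.symm.pow_pow c d).mul_pow, ← pow_mul, ← pow_mul, mul_comm d 2] at hsx2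
          have h := mul_right_cancel hsx2
          rw [pow_mul, sq] at h
          exact mul_eq_left.1 h.symm
        rw [hc0, one_mul] at hcd
        interval_cases d
        · rw [pow_zero] at hcd
          refine hxy 0 ?_
          calc x = σ * (σ * x * σ) * σ := by simp only [mul_assoc, hs2, mul_one, ← mul_assoc σ σ, one_mul]
            _ = y ^ 0 := by rw [hcd, mul_one, hs2, pow_zero]
        · rw [pow_one] at hcd
          refine hlight σ hσord ?_
          show x * σ = σ * x
          conv_lhs => rw [← hcd]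
          rw [mul_assoc _ σ σ, hs2, mul_one]
        · refine hlight (σ * z) hτord ?_
          show x * (σ * z) = σ * z * x
          have hfix : σ * z * x * (σ * z) = x := by
            calc σ * z * x * (σ * z) = σ * (z * x * z) * σ := by
                  conv_lhs => arg 2; rw [hsz]
                  group
              _ = x := by
                rw [hab, ← inv_conj_pow hs2, hcd, ← pow_mul, show 2 * 2 = 3 + 1 by norm_num,
                  pow_succ, hx3, one_mul]
          conv_lhs => rw [← hfix]
          rw [mul_assoc _ (σ * z) (σ * z), ← sq, ← hτord, pow_orderOf_eq_one, mul_one]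
      · -- a conjugate of `y` by the Sylow group is a conjugate of a power of `x`
        obtain ⟨p, hpP, hpy⟩ : ∃ p ∈ (P : Subgroup G), p * y * p⁻¹ ∈ K ∧ p * y * p⁻¹ ≠ y := by
          obtain ⟨p, hpP, hpn⟩ := SetLike.not_le_iff_exists.1 hnP
          refine ⟨p, hpP, ?_, fun h => hpn (memC.2 (mul_inv_eq_iff_eq_mul.1 h))⟩
          have hKPc : Nat.card (K.subgroupOf (P : Subgroup G)) = 9 := by
            rw [Nat.card_congr (Subgroup.subgroupOfEquivOfLe hP).toEquiv, hKc]
            norm_num
          have hidx : (K.subgroupOf (P : Subgroup G)).index = 3 := by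
            have h := (K.subgroupOf (P : Subgroup G)).card_mul_index
            rw [hKPc, show Nat.card (P : Subgroup G) = 27 from hPc] at h
            omega
          have hn : (K.subgroupOf (P : Subgroup G)).Normal :=
            Subgroup.normal_of_index_eq_minFac_card (by
              rw [hidx, show Nat.card (P : Subgroup G) = 3 ^ 3 from hPc.trans (by norm_num),
                Nat.Prime.pow_minFac Nat.prime_three (by norm_num)])
          exact hn.conj_mem ⟨y, hP hyK⟩ hyK ⟨p, hpP⟩
        obtain ⟨hpK, hpne⟩ := hpy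
        obtain ⟨c, hc, d, hd, hcd⟩ := hsurj _ hpK
        have hp27 : p ^ 27 = 1 := by
          apply orderOf_dvd_iff_pow_eq_one.1
          rw [← Subgroup.orderOf_mk p hpP, ← show Nat.card (P : Subgroup G) = 27 from hPc]
          exact orderOf_dvd_natCard _
        have hpx : ∀ n : ℕ, p * x ^ n * p⁻¹ = x ^ n := fun n => by
          rw [((show Commute p x from hxcomm p hpP).pow_right n).eq, mul_inv_cancel_right]
        have hc1 : c = 1 := by
          interval_cases c
          · exfalso
            rw [pow_zero, one_mul] at hcd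
            interval_cases d
            · rw [pow_zero] at hcd
              exact hy1 (conj_eq_one_iff.1 hcd)
            · rw [pow_one] at hcd; exact (hnot p).1 hcd
            · exact (hnot p).2 hcd
          · rfl
          · exfalso
            have h2 : p * p * y * (p * p)⁻¹ = y := by
              calc p * p * y * (p * p)⁻¹ = p * (p * y * p⁻¹) * p⁻¹ := by group
                _ = (p * y * p⁻¹) ^ 2 * (p * x ^ d * p⁻¹) := by rw [conj_pow, hcd]; group
                _ = (y ^ 2 * x ^ d) ^ 2 * x ^ d := by rw [hpx, hcd]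
                _ = y ^ (3 + 1) * x ^ (3 * d) := by
                  rw [(hxyc.symm.pow_pow 2 d).mul_pow, ← pow_mul, ← pow_mul, mul_assoc, ← pow_add]
                  ring_nf
                _ = y := by rw [pow_succ, hy3, one_mul, pow_mul, hx3, one_pow, mul_one]
            refine hpne ?_
            have hCp : p * p ∈ C := memC.2 (mul_inv_eq_iff_eq_mul.1 h2)
            have hp : p ∈ C := by
              have : p = (p * p) ^ 14 := by
                rw [← sq, ← pow_mul, show 2 * 14 = 27 + 1 by norm_num, pow_succ, hp27, one_mul]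
              rw [this]; exact C.pow_mem hCp 14
            rw [memC.1 hp, mul_inv_cancel_right]
        rw [hc1, pow_one] at hcd
        have hd0 : d ≠ 0 := fun h => hpne (by rw [hcd, h, pow_zero, mul_one])
        have horb : ∀ m : ℕ, p ^ m * y * (p ^ m)⁻¹ = y * x ^ (d * m) := by
          intro m
          induction m with
          | zero => simp
          | succ m ih =>
            calc p ^ (m + 1) * y * (p ^ (m + 1))⁻¹ = p * (p ^ m * y * (p ^ m)⁻¹) * p⁻¹ := by
                  rw [pow_succ']; group
              _ = p * y * p⁻¹ * (p * x ^ (d * m) * p⁻¹) := by rw [ih]; group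
              _ = y * x ^ (d * (m + 1)) := by rw [hpx, hcd, mul_assoc, ← pow_add]; ring_nf
        -- choose `m` so that the `a`-th power of the conjugate is `z * x * z`
        obtain ⟨m, -, hm⟩ : ∃ m < 3, (d * m * a) % 3 = 2 := by
          refine ⟨2 * d * a % 3, Nat.mod_lt _ (by norm_num), ?_⟩
          have ha' : a = 1 ∨ a = 2 := by omega
          have hd' : d = 1 ∨ d = 2 := by omega
          rcases hd' with rfl | rfl <;> rcases ha' with rfl | rfl <;> rfl
        have hconj : z * x * z = (p ^ m * y * (p ^ m)⁻¹) ^ a := by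
          rw [horb, (hxyc.symm.pow_right (d * m)).mul_pow, ← pow_mul, hab, pow_eq_pow_mod (d * m * a) hx3, hm]
        have ha12 : a = 1 ∨ a = 2 := by omega
        rcases ha12 with rfl | rfl
        · rw [pow_one] at hconj
          refine (hnot (z * p ^ m)).1 ?_
          calc z * p ^ m * y * (z * p ^ m)⁻¹ = z * (p ^ m * y * (p ^ m)⁻¹) * z⁻¹ := by group
            _ = x := by rw [← hconj, hzinv]; exact hxx.symm
        · refine (hnot (z * p ^ m)).2 ?_
          set w := p ^ m * y * (p ^ m)⁻¹ with hw
          have hw3 : w ^ 3 = 1 := by rw [hw, conj_pow, hy3, mul_one, mul_inv_cancel]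
          calc z * p ^ m * y * (z * p ^ m)⁻¹ = z * w * z⁻¹ := by rw [hw]; group
            _ = z * (w ^ 2) ^ 2 * z⁻¹ := by
              rw [← pow_mul, show 2 * 2 = 3 + 1 by norm_num, pow_succ, hw3, one_mul]
            _ = z * (z * x * z) ^ 2 * z := by rw [← hconj, hzinv]
            _ = x ^ 2 := by rw [← inv_conj_pow hz2, ← hxx]

end

end Cfsg.Agent.L33Rec
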