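import Cfsg.Agent.L33Rec.Bound
import Cfsg.Agent.L33Rec.CentFix

/-!
A simple group of order 5616 with involution centralizer `GL(2,3)` is a quotient of the presented
group.
-/

set_option autoImplicit false

namespace Cfsg.Agent.L33Rec

open Cfsg.Agent.InvolGL23
open Cfsg.Agent.CosetCert (Data wordRels)
open Cfsg.Agent.S0197 (emb emb_injective emb_mem exists_emb emb_e emb_eq_z z_sq z_ne)

universe u

/-- The three generators. -/
def genQ : Fin 3 → Q := ![(1, 1, 0, 1), (0, 1, 1, 0), (1, 0, 0, 2)]

/-- Products of at most `n` generators. -/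
def reach : ℕ → Finset Q
  | 0 => {qone}
  | n + 1 => reach n ∪ (reach n).image (fun x => qmul x (genQ 0)) ∪
      (reach n).image (fun x => qmul x (genQ 1)) ∪ (reach n).image (fun x => qmul x (genQ 2))

theorem els_reach : els ⊆ reach 10 := by decide +kernel

set_option synthInstance.maxSize 4000 in
theorem model_facts : (∀ p : Fin 3, genQ p ∈ els) ∧ qmul (genQ 1) (genQ 1) = qone ∧
    qmul (genQ 2) (genQ 2) = qone ∧ qmul (genQ 1) qneg = qmul qneg (genQ 1) ∧
    qmul (genQ 0) (qmul (genQ 0) (genQ 0)) = qone ∧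
    qmul (qmul (genQ 1) (genQ 2)) (genQ 1) = qmul (genQ 2) qneg ∧
    qval [(2, true), (1, true), (2, true), (1, true)] = qneg ∧
    qval [(0, false), (1, true), (0, true)] ∈ els ∧
    qval [(0, true), (1, true), (2, true), (1, true)] ∈ els := by decide +kernel

theorem centralizes_four : ∀ k ∈ els, qmul k (1, 0, 0, 2) = qmul (1, 0, 0, 2) k → k ∈ four := by
  decide +kernel

theorem neg_conj : ∀ x ∈ els, qmul x x = qone → x ≠ qone → x ≠ qneg →
    ∃ k ∈ els, qmul k x = qmul (qmul x qneg) k := by decide +kernel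

theorem fixed_three : ∀ k ∈ els, qmul k (qmul k k) = qone → k ≠ qone →
    qmul (qmul (1, 0, 0, 2) k) (1, 0, 0, 2) = qmul k k →
    k = (1, 1, 0, 1) ∨ k = (1, 2, 0, 1) ∨ k = (1, 0, 1, 1) ∨ k = (1, 0, 2, 1) := by decide +kernel

theorem transpose_facts : qval [(1, true), (0, true), (1, true)] = (1, 0, 1, 1) ∧
    qmul (1, 2, 0, 1) (1, 2, 0, 1) = (1, 1, 0, 1) ∧ qmul (1, 0, 2, 1) (1, 0, 2, 1) = (1, 0, 1, 1) := by
  decide +kernel

/-- The elements of order three behind the two commutator relations. -/
def pairY1 : Q := qmul (qmul (qmul (1, 0, 0, 2) qneg) (qval [(0, false), (1, true), (0, true)])) qone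

/-- The second one. -/
def pairY2 : Q :=
  qmul (qmul (qmul (1, 0, 0, 2) qneg) (qval [(0, true), (1, true), (2, true), (1, true)])) qone

theorem pair_one : Pair pairY1 (2, 0, 0, 1) := by constructor <;> decide +kernel

theorem pair_two : Pair pairY2 (2, 0, 0, 1) := by constructor <;> decide +kernel

section

variable {G : Type u} [Group G] [Finite G] {z : G}
  (e : Subgroup.centralizer ({z} : Set G) ≃* Matrix.GeneralLinearGroup (Fin 2) (ZMod 3))

local notation "GL23" => Matrix.GeneralLinearGroup (Fin 2) (ZMod 3)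

include e in
/-- An element of order three permuting the involutions of the diagonal four group. -/
theorem exists_w (hz : orderOf z = 2)
    (hfus : ∀ g : GL23, g * g = 1 → g ≠ 1 → ∃ w, w * z * w⁻¹ = emb e g)
    {R S : GL23} (hR : toQ R = genQ 1) (hS : toQ S = genQ 2) :
    ∃ w : G, w * z * w⁻¹ = emb e S ∧ w * emb e S * w⁻¹ = emb e S * z ∧
      w * w * w = 1 ∧ emb e R * w * (emb e R * w) = 1 := by
  obtain ⟨-, hR2, hS2, hRn, -, hRS, -⟩ := model_facts
  obtain ⟨n, hn⟩ := toQ_surj qneg_central.1
  have hnz : emb e n = z := emb_eq_z e hz hn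
  set r := emb e R with hr
  set s := emb e S with hs
  have hSS : S * S = 1 := toQ_injective (by rw [toQ_mul, toQ_one, hS]; exact hS2)
  have hr2 : r * r = 1 := by
    rw [hr, ← map_mul, show R * R = 1 from toQ_injective (by rw [toQ_mul, toQ_one, hR]; exact hR2),
      map_one]
  have hrinv : r⁻¹ = r := inv_eq_of_mul_eq_one_right hr2
  have hs2 : s * s = 1 := by rw [hs, ← map_mul, hSS, map_one]
  have hz2 : z * z = 1 := z_sq hz
  have hsz : s * z = z * s := Subgroup.mem_centralizer_singleton_iff.1 (emb_mem e S)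
  have hrz : r * z = z * r := Subgroup.mem_centralizer_singleton_iff.1 (emb_mem e R)
  have hrs : r * s * r⁻¹ = s * z := by
    have h : R * S * R = S * n :=
      toQ_injective (by rw [toQ_mul, toQ_mul, toQ_mul, hR, hS, hn]; exact hRS)
    calc r * s * r⁻¹ = emb e (R * S * R) := by rw [hrinv, hr, hs, map_mul, map_mul]
      _ = s * z := by rw [h, map_mul, hnz]
  obtain ⟨g, hg⟩ := hfus S hSS (fun h => by
    rw [h, toQ_one] at hS
    exact absurd hS (by decide +kernel))
  change g * z * g⁻¹ = s at hg
  -- an element centralising `s` and moving `z` to `s * z`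
  have hzg : g⁻¹ * z * g ∈ Subgroup.centralizer ({z} : Set G) := by
    rw [Subgroup.mem_centralizer_singleton_iff]
    calc g⁻¹ * z * g * z = g⁻¹ * (z * (g * z * g⁻¹)) * g := by group
      _ = g⁻¹ * ((g * z * g⁻¹) * z) * g := by rw [hg, hsz]
      _ = z * (g⁻¹ * z * g) := by group
  obtain ⟨t, ht⟩ := exists_emb e hzg
  obtain ⟨k, hk, hke⟩ := neg_conj _ (toQ_mem t)
    (by
      rw [← toQ_mul, ← toQ_one]
      congr 1
      refine emb_injective e ?_
      rw [map_mul, map_one, ht]
      calc g⁻¹ * z * g * (g⁻¹ * z * g) = g⁻¹ * (z * z) * g := by group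
        _ = 1 := by rw [hz2, mul_one, inv_mul_cancel])
    (fun h => z_ne hz (by
      rw [toQ_injective (h.trans toQ_one.symm), map_one] at ht
      calc z = g * (g⁻¹ * z * g) * g⁻¹ := by group
        _ = 1 := by rw [← ht, mul_one, mul_inv_cancel]))
    (fun h => by
      rw [emb_eq_z e hz h] at ht
      have h1 : s = z := by
        rw [← hg]
        conv_lhs => rw [ht]
        group
      have h2 : S = n := emb_injective e (h1.trans hnz.symm)
      rw [h2, hn] at hS
      exact absurd hS (by decide +kernel))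
  obtain ⟨k, rfl⟩ := toQ_surj hk
  rw [← hn, ← toQ_mul, ← toQ_mul, ← toQ_mul] at hke
  have hkt : emb e k * (g⁻¹ * z * g) * (emb e k)⁻¹ = g⁻¹ * z * g * z := by
    rw [← ht, ← map_mul, toQ_injective hke, map_mul, map_mul, hnz, mul_inv_cancel_right]
  set w0 := r * (g * emb e k * g⁻¹) with hw0
  have hkz : emb e k * z * (emb e k)⁻¹ = z := by
    rw [Subgroup.mem_centralizer_singleton_iff.1 (emb_mem e k), mul_inv_cancel_right]
  have e1 : w0 * z * w0⁻¹ = s := by
    calc w0 * z * w0⁻¹ = r * (g * (emb e k * (g⁻¹ * z * g) * (emb e k)⁻¹) * g⁻¹) * r⁻¹ := by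
          rw [hw0]; group
      _ = r * (z * (g * z * g⁻¹)) * r⁻¹ := by rw [hkt]; group
      _ = (r * z * r⁻¹) * (r * s * r⁻¹) := by rw [hg]; group
      _ = s := by rw [hrz, mul_inv_cancel_right, hrs, ← mul_assoc, ← hsz, mul_assoc, hz2, mul_one]
  have e2 : w0 * s * w0⁻¹ = s * z := by
    calc w0 * s * w0⁻¹ = r * (g * (emb e k * z * (emb e k)⁻¹) * g⁻¹) * r⁻¹ := by
          rw [hw0, ← hg]; group
      _ = s * z := by rw [hkz, hg, hrs]
  -- elements fixing the four group
  have hfix : ∀ v : G, v * z = z * v → v * s = s * v → v = 1 ∨ v = z ∨ v = s ∨ v = s * z := by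
    intro v hvz hvs
    obtain ⟨V, rfl⟩ := exists_emb e (Subgroup.mem_centralizer_singleton_iff.2 hvz)
    rw [hs, ← map_mul, ← map_mul] at hvs
    have hV := centralizes_four _ (toQ_mem V) (by
      have := congrArg toQ (emb_injective e hvs)
      rw [toQ_mul, toQ_mul, hS] at this
      exact this)
    simp only [four, Finset.mem_insert, Finset.mem_singleton] at hV
    rcases hV with h | h | h | h
    · left; rw [toQ_injective (h.trans toQ_one.symm), map_one]
    · right; left; exact emb_eq_z e hz h
    · right; right; left; rw [toQ_injective (h.trans hS.symm)]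
    · right; right; right
      have hVe : V = S * n := toQ_injective (h.trans (by rw [toQ_mul, hS, hn]; decide +kernel))
      calc emb e V = emb e (S * n) := by rw [hVe]
        _ = s * z := by rw [map_mul, hnz]
  -- three conditions
  have cube : ∀ w : G, w * z * w⁻¹ = s → w * s * w⁻¹ = s * z → w * w * w = 1 := by
    intro w h1 h2
    have h3 : w * (s * z) * w⁻¹ = z := by
      calc w * (s * z) * w⁻¹ = (w * s * w⁻¹) * (w * z * w⁻¹) := by group
        _ = z := by rw [h1, h2, hsz, mul_assoc, hs2, mul_one]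
    have c1 : w * w * w * z = z * (w * w * w) := by
      calc w * w * w * z = w * (w * (w * z * w⁻¹) * w⁻¹) * w⁻¹ * (w * w * w) := by group
        _ = z * (w * w * w) := by rw [h1, h2, h3]
    have c2 : w * w * w * s = s * (w * w * w) := by
      calc w * w * w * s = w * (w * (w * s * w⁻¹) * w⁻¹) * w⁻¹ * (w * w * w) := by group
        _ = s * (w * w * w) := by rw [h2, h3, h1]
    have c3 : w * (w * w * w) * w⁻¹ = w * w * w := by group
    rcases hfix _ c1 c2 with h | h | h | h
    · exact h
    · rw [h, h1] at c3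
      exfalso
      have h2' := h2
      rw [c3, h1, c3] at h2'
      exact z_ne hz (mul_eq_left.1 h2'.symm)
    · rw [h, h2] at c3
      exact absurd (mul_eq_left.1 c3) (z_ne hz)
    · rw [h, h3] at c3
      have h4 : s = 1 := mul_eq_right.1 c3.symm
      have h5 := h1
      rw [h4] at h5
      exact absurd (conj_eq_one_iff.1 h5) (z_ne hz)
  have sq : ∀ w : G, w * z * w⁻¹ = s → w * s * w⁻¹ = s * z →
      r * w * (r * w) = 1 ∨ r * w * (r * w) = s := by
    intro w h1 h2
    have hrs' : r * (s * z) * r⁻¹ = s := by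
      calc r * (s * z) * r⁻¹ = (r * s * r⁻¹) * (r * z * r⁻¹) := by group
        _ = s := by rw [hrs, hrz, mul_inv_cancel_right, mul_assoc, hz2, mul_one]
    have f1 : r * w * z * (r * w)⁻¹ = s * z := by
      calc r * w * z * (r * w)⁻¹ = r * (w * z * w⁻¹) * r⁻¹ := by group
        _ = s * z := by rw [h1, hrs]
    have f2 : r * w * s * (r * w)⁻¹ = s := by
      calc r * w * s * (r * w)⁻¹ = r * (w * s * w⁻¹) * r⁻¹ := by group
        _ = s := by rw [h2, hrs']
    have f3 : r * w * (s * z) * (r * w)⁻¹ = z := by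
      calc r * w * (s * z) * (r * w)⁻¹ = (r * w * s * (r * w)⁻¹) * (r * w * z * (r * w)⁻¹) := by group
        _ = z := by rw [f1, f2, ← mul_assoc, hs2, one_mul]
    set u := r * w with hu
    have c1 : u * u * z = z * (u * u) := by
      calc u * u * z = u * (u * z * u⁻¹) * u⁻¹ * (u * u) := by group
        _ = z * (u * u) := by rw [f1, f3]
    have c2 : u * u * s = s * (u * u) := by
      calc u * u * s = u * (u * s * u⁻¹) * u⁻¹ * (u * u) := by group
        _ = s * (u * u) := by rw [f2, f2]
    have c3 : u * (u * u) * u⁻¹ = u * u := by group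
    rcases hfix _ c1 c2 with h | h | h | h
    · exact Or.inl h
    · rw [h, f1] at c3
      have h4 : s = 1 := mul_eq_right.1 c3
      rw [h4] at h1
      exact absurd (conj_eq_one_iff.1 h1) (z_ne hz)
    · exact Or.inr h
    · rw [h, f3] at c3
      have h4 : s = 1 := mul_eq_right.1 c3.symm
      rw [h4] at h1
      exact absurd (conj_eq_one_iff.1 h1) (z_ne hz)
  rcases sq w0 e1 e2 with h | h
  · exact ⟨w0, e1, e2, cube _ e1 e2, h⟩
  · have a1 : z * w0 * z * (z * w0)⁻¹ = s := by
      calc z * w0 * z * (z * w0)⁻¹ = z * (w0 * z * w0⁻¹) * z⁻¹ := by group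
        _ = s := by rw [e1, ← hsz, mul_inv_cancel_right]
    have a2 : z * w0 * s * (z * w0)⁻¹ = s * z := by
      calc z * w0 * s * (z * w0)⁻¹ = z * (w0 * s * w0⁻¹) * z⁻¹ := by group
        _ = s * z := by rw [e2, ← mul_assoc, ← hsz, mul_inv_cancel_right]
    refine ⟨z * w0, a1, a2, cube _ a1 a2, ?_⟩
    have f1 : r * w0 * z * (r * w0)⁻¹ = s * z := by
      calc r * w0 * z * (r * w0)⁻¹ = r * (w0 * z * w0⁻¹) * r⁻¹ := by group
        _ = s * z := by rw [e1, hrs]
    calc r * (z * w0) * (r * (z * w0)) = z * (r * w0) * (z * (r * w0)) := by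
          rw [← mul_assoc r z, hrz, mul_assoc z r]
      _ = z * ((r * w0) * z * (r * w0)⁻¹) * (r * w0 * (r * w0)) := by group
      _ = 1 := by rw [f1, h, ← mul_assoc z, ← hsz, mul_assoc s z z, hz2, mul_one, hs2]

include e in
theorem count_le (H : Subgroup G) (hCH : Subgroup.centralizer ({z} : Set G) ≤ H)
    (hconj : ∀ q ∈ invols, ∃ k ∈ H, ∃ g : GL23, toQ g = q ∧ k * z * k⁻¹ = emb e g) :
    13 * 48 ≤ Nat.card H := by
  choose k hk g hg hkg using hconj
  have hc : invols.card = 13 := by decide +kernel
  let f : {q // q ∈ invols} × Subgroup.centralizer ({z} : Set G) → H := fun p =>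
    ⟨k p.1.1 p.1.2 * p.2, H.mul_mem (hk _ _) (hCH p.2.2)⟩
  have hf : Function.Injective f := by
    rintro ⟨⟨a, ha⟩, c⟩ ⟨⟨b, hb⟩, d⟩ h
    have h' : k a ha * c = k b hb * d := congrArg Subtype.val h
    have hconjc : ∀ (v : Subgroup.centralizer ({z} : Set G)) (x : G),
        x * v * z * (x * v)⁻¹ = x * z * x⁻¹ := by
      intro v x
      calc x * v * z * (x * v)⁻¹ = x * ((v : G) * z) * (v : G)⁻¹ * x⁻¹ := by group
        _ = x * (z * v) * (v : G)⁻¹ * x⁻¹ := by rw [Subgroup.mem_centralizer_singleton_iff.1 v.2]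
        _ = x * z * x⁻¹ := by group
    have hab : g a ha = g b hb := emb_injective e (by rw [← hkg, ← hkg, ← hconjc c, h', hconjc])
    have hab' : a = b := by rw [← hg a ha, hab, hg]
    subst hab'
    exact Prod.ext rfl (Subtype.ext (mul_left_cancel h'))
  have := Nat.card_le_card_of_injective f hf
  rwa [Nat.card_prod, Nat.card_eq_fintype_card, Fintype.card_coe, hc, card_cent e] at this

include e in
/-- The centralizer and an element fusing its involutions generate. -/
theorem generate [IsSimpleGroup G] (hz : orderOf z = 2) (hG : Nat.card G = 5616)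
    (hfus : ∀ g : GL23, g * g = 1 → g ≠ 1 → ∃ w, w * z * w⁻¹ = emb e g)
    (H : Subgroup G) (hCH : Subgroup.centralizer ({z} : Set G) ≤ H) {S : GL23}
    (hS : toQ S = genQ 2) {w : G} (hw : w ∈ H) (hwz : w * z * w⁻¹ = emb e S) : H = ⊤ := by
  have h13 := count_le e H hCH fun q hq => by
    obtain ⟨hqe, hq2, hq1⟩ := Finset.mem_filter.1 hq
    by_cases hn : q = qneg
    · obtain ⟨n, hn'⟩ := toQ_surj qneg_central.1
      exact ⟨1, H.one_mem, n, hn'.trans hn.symm, by rw [emb_eq_z e hz hn', one_mul, inv_one, mul_one]⟩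
    · obtain ⟨k1, hk1, hk1e⟩ := invol_conj _ hqe hq2 hq1 hn
      obtain ⟨k2, hk2, hk2e⟩ := invol_conj _ (model_facts.1 2) model_facts.2.2.1
        (by decide +kernel) (by decide +kernel)
      obtain ⟨K1, rfl⟩ := toQ_surj hk1
      obtain ⟨K2, rfl⟩ := toQ_surj hk2
      obtain ⟨g, rfl⟩ := toQ_surj hqe
      obtain ⟨T, hT⟩ := toQ_surj (syl_facts.1 syl_facts.2.2.2.1)
      rw [← hT, ← toQ_mul, ← toQ_mul] at hk1e
      rw [← hT, ← hS, ← toQ_mul, ← toQ_mul] at hk2e
      refine ⟨emb e K1 * (emb e K2)⁻¹ * w,
        H.mul_mem (H.mul_mem (hCH (emb_mem e K1)) (H.inv_mem (hCH (emb_mem e K2)))) hw, g, rfl, ?_⟩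
      calc emb e K1 * (emb e K2)⁻¹ * w * z * (emb e K1 * (emb e K2)⁻¹ * w)⁻¹
          = emb e K1 * ((emb e K2)⁻¹ * (w * z * w⁻¹) * emb e K2) * (emb e K1)⁻¹ := by group
        _ = emb e (K1 * (K2⁻¹ * (S * K2)) * K1⁻¹) := by
          rw [hwz]; simp only [map_mul, map_inv]; group
        _ = emb e g := by
          rw [← toQ_injective hk2e, inv_mul_cancel_left, toQ_injective hk1e, mul_inv_cancel_right]
  have hmul := H.card_mul_index
  rw [hG] at hmul
  have hidx : H.index ≤ 9 := by
    by_contra hlt
    have := Nat.mul_le_mul h13 (show 10 ≤ H.index by omega)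
    rw [hmul] at this
    omega
  by_contra hne
  have hker : (MulAction.toPermHom G (G ⧸ H)).ker = ⊥ := by
    refine (MonoidHom.normal_ker _).eq_bot_or_eq_top.resolve_right fun h => hne ?_
    rw [← Subgroup.normalCore_eq_ker] at h
    exact eq_top_iff.2 (h.ge.trans (Subgroup.normalCore_le H))
  have hd := Subgroup.card_dvd_of_injective _ ((MonoidHom.ker_eq_bot_iff _).1 hker)
  rw [hG, Nat.card_perm, show Nat.card (G ⧸ H) = H.index from rfl] at hd
  have h9 := hd.trans (Nat.factorial_dvd_factorial hidx)
  exact absurd h9 (by decide)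

include e in
/-- The group is a quotient of the presented group. -/
theorem exists_surjective [IsSimpleGroup G] (hz : orderOf z = 2) (hG : Nat.card G = 5616)
    (hfus : ∀ g : GL23, g * g = 1 → g ≠ 1 → ∃ w, w * z * w⁻¹ = emb e g) :
    ∃ ψ : Gamma →* G, Function.Surjective ψ := by
  obtain ⟨hmem, hR2, hS2, -, hA3, -, hwZ, hU1, hU2⟩ := model_facts
  choose g hg using fun i => toQ_surj (hmem i)
  have hinv : ∀ p : Fin 3 × Bool, toQ (cond p.2 (g p.1) (g p.1)⁻¹) = letterQ p := by
    rintro ⟨i, b⟩
    have hA : (g 0)⁻¹ = g 0 * g 0 := inv_eq_of_mul_eq_one_right (toQ_injective (by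
      rw [toQ_mul, toQ_mul, toQ_one, hg]; exact hA3))
    have hR : (g 1)⁻¹ = g 1 := inv_eq_of_mul_eq_one_right (toQ_injective (by
      rw [toQ_mul, toQ_one, hg]; exact hR2))
    have hS : (g 2)⁻¹ = g 2 := inv_eq_of_mul_eq_one_right (toQ_injective (by
      rw [toQ_mul, toQ_one, hg]; exact hS2))
    fin_cases i <;> cases b <;> simp [hA, hR, hS, toQ_mul, hg] <;> decide +kernel
  obtain ⟨w, hwz, hws, hw3, hrw⟩ := exists_w e hz hfus (hg 1) (hg 2)
  let f : Fin 4 → G := ![emb e (g 0), emb e (g 1), emb e (g 2), w]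
  set ev := FreeGroup.lift f with hev
  have hcast : (fun i : Fin 3 => f i.castSucc) = fun i => emb e (g i) := by
    funext i; fin_cases i <;> rfl
  have hgl : ∀ l : List (Fin 3 × Bool),
      ev (FreeGroup.mk (l.map fun p => (p.1.castSucc, p.2))) =
        emb e (FreeGroup.lift g (FreeGroup.mk l)) := by
    intro l
    rw [hev, lift_map_castSucc, hcast]
    exact DFunLike.congr_fun (FreeGroup.ext_hom (FreeGroup.lift fun i => emb e (g i))
      ((emb e).comp (FreeGroup.lift g)) fun i => by simp) _
  have hval := toQ_lift g hinv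
  have f1 : f 1 * f 1 = 1 := by
    show emb e (g 1) * emb e (g 1) = 1
    rw [← map_mul, show g 1 * g 1 = 1 from toQ_injective (by rw [toQ_mul, toQ_one, hg]; exact hR2),
      map_one]
  have f2 : f 2 * f 2 = 1 := by
    show emb e (g 2) * emb e (g 2) = 1
    rw [← map_mul, show g 2 * g 2 = 1 from toQ_injective (by rw [toQ_mul, toQ_one, hg]; exact hS2),
      map_one]
  have hzv : ev (FreeGroup.mk wZ) = z := by
    rw [show wZ = ([(2, true), (1, true), (2, true), (1, true)] : List (Fin 3 × Bool)).map
      (fun p => (p.1.castSucc, p.2)) from rfl, hgl]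
    exact emb_eq_z e hz ((hval _).trans hwZ)
  have hAv : ev (FreeGroup.mk wA) = emb e (g 0) := by simp [hev, wA, lift_mk_single, f]
  have hA'v : ev (FreeGroup.mk wA') = emb e (g 1 * g 0 * g 1) := by
    rw [show wA' = ([(1, true), (0, true), (1, true)] : List (Fin 3 × Bool)).map
      (fun p => (p.1.castSucc, p.2)) from rfl, hgl]
    congr 1
    simp [FreeGroup.lift_mk, mul_assoc]
  -- base relations
  have hbase : ∀ l ∈ baseWords, ev (FreeGroup.mk l) = 1 := by
    intro l hl
    rw [base_eq, List.mem_append] at hl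
    rcases hl with hl | hl
    · obtain ⟨m, hm, rfl⟩ := List.mem_map.1 hl
      rw [hgl, show FreeGroup.lift g (FreeGroup.mk m) = 1 from toQ_injective (by
        rw [hval, toQ_one, gl_relations m hm]), map_one]
    · simp only [List.mem_cons, List.not_mem_nil, or_false] at hl
      rcases hl with rfl | rfl | rfl | rfl
      · simp [hev, FreeGroup.lift_mk, f, ← mul_assoc, hw3]
      · rw [hev, lift_mk_append, lift_mk_append, ← hev, hzv, lift_mk_single,
          show ([(3, false), (2, true)] : Word) = [(3, false)] ++ [(2, true)] from rfl,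
          lift_mk_append, lift_mk_single, lift_mk_single]
        show w * z * (w⁻¹ * f 2) = 1
        rw [← mul_assoc, hwz]
        exact f2
      · rw [show ([(3, true), (2, true), (3, false), (2, true), (1, true), (2, true), (1, true), (2, true)] : Word)
          = [(3, true), (2, true), (3, false)] ++ wZ ++ [(2, true)] from rfl, hev, lift_mk_append,
          lift_mk_append, ← hev, hzv, hev, lift_mk_single,
          show ([(3, true), (2, true), (3, false)] : Word) = [(3, true)] ++ [(2, true)] ++ [(3, false)]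
            from rfl, lift_mk_append, lift_mk_append, lift_mk_single, lift_mk_single, lift_mk_single]
        show w * f 2 * w⁻¹ * z * f 2 = 1
        rw [show f 2 = emb e (g 2) from rfl, hws, mul_assoc (emb e (g 2)) z z, z_sq hz, mul_one]
        exact f2
      · simpa [hev, FreeGroup.lift_mk, f, mul_assoc] using hrw
  have hwn : w ∉ Subgroup.centralizer ({z} : Set G) := by
    intro h
    rw [Subgroup.mem_centralizer_singleton_iff.1 h, mul_inv_cancel_right] at hwz
    obtain ⟨n, hn⟩ := toQ_surj qneg_central.1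
    have h2 := hg 2
    rw [← show n = g 2 from emb_injective e ((emb_eq_z e hz hn).trans hwz), hn] at h2
    exact absurd h2 (by decide +kernel)
  -- the element of order three fused into the centralizer
  have key : ∀ (u : List (Fin 3 × Bool)) (q : Q), qval u ∈ els →
      q = qmul (qmul (qmul (1, 0, 0, 2) qneg) (qval u)) qone → Pair q (2, 0, 0, 1) →
      Commute (ev (FreeGroup.mk (wX (u.map fun p => (p.1.castSucc, p.2))))) (emb e (g 0)) ∨
      Commute (ev (FreeGroup.mk (wX (u.map fun p => (p.1.castSucc, p.2)))))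
        (emb e (g 1 * g 0 * g 1)) := by
    intro u q hu hq hp
    obtain ⟨n, hn⟩ := toQ_surj qneg_central.1
    set U := FreeGroup.lift g (FreeGroup.mk u) with hUdef
    set Y := g 2 * n * U with hY
    have hYq : toQ Y = q := by
      have h1 : ∀ a : Q, qmul a qone = a := by decide +kernel
      rw [hq, h1, hY, toQ_mul, toQ_mul, hg, hn, hUdef, hval]
      rfl
    have hSs : toQ (g 2 * n) = (2, 0, 0, 1) := by
      rw [toQ_mul, hg, hn]; decide +kernel
    obtain ⟨d, hd1, hd3, hdY, hdS, hzd⟩ := exists_fixed e hz hG hfus hp hYq hSs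
    have hz2 := z_sq hz
    have hsz : emb e (g 2) * z = z * emb e (g 2) :=
      Subgroup.mem_centralizer_singleton_iff.1 (emb_mem e _)
    have hSzn : emb e (g 2 * n) = emb e (g 2) * z := by rw [map_mul, emb_eq_z e hz hn]
    have hwsz : w * (emb e (g 2) * z) * w⁻¹ = z := by
      calc w * (emb e (g 2) * z) * w⁻¹ = (w * emb e (g 2) * w⁻¹) * (w * z * w⁻¹) := by group
        _ = z := by rw [hwz, hws, hsz, mul_assoc, show emb e (g 2) * emb e (g 2) = 1 from f2, mul_one]
    have hX : ev (FreeGroup.mk (wX (u.map fun p => (p.1.castSucc, p.2)))) = w * emb e Y * w⁻¹ := by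
      rw [wX, hev, lift_mk_append, lift_mk_append, lift_mk_append, ← hev, hzv, hgl,
        hev, lift_mk_single, lift_mk_single]
      show z * w * emb e U * w⁻¹ = _
      rw [hY, map_mul, hSzn]
      calc z * w * emb e U * w⁻¹ = z * (w * emb e U * w⁻¹) := by group
        _ = (w * (emb e (g 2) * z) * w⁻¹) * (w * emb e U * w⁻¹) := by rw [hwsz]
        _ = _ := by group
    set c := w * d * w⁻¹ with hc
    have hcz : c ∈ Subgroup.centralizer ({z} : Set G) := by
      rw [Subgroup.mem_centralizer_singleton_iff]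
      conv_lhs => rw [← hwsz]
      conv_rhs => rw [← hwsz]
      rw [hc, ← hSzn]
      calc w * d * w⁻¹ * (w * emb e (g 2 * n) * w⁻¹) = w * (d * emb e (g 2 * n)) * w⁻¹ := by group
        _ = w * (emb e (g 2 * n) * d) * w⁻¹ := by rw [hdS.eq]
        _ = w * emb e (g 2 * n) * w⁻¹ * (w * d * w⁻¹) := by group
    obtain ⟨C, hC⟩ := exists_emb e hcz
    have hC3 : C * (C * C) = 1 := emb_injective e (by
      rw [map_mul, map_mul, map_one, hC, hc, ← pow_three, conj_pow, hd3, mul_one, mul_inv_cancel])
    have hCs : toQ (g 2 * C * g 2) = toQ (C * C) := by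
      congr 1
      refine emb_injective e ?_
      rw [map_mul, map_mul, map_mul, hC, hc]
      calc emb e (g 2) * (w * d * w⁻¹) * emb e (g 2)
          = w * z * w⁻¹ * (w * d * w⁻¹) * (w * z * w⁻¹) := by rw [hwz]
        _ = w * (z * d * z) * w⁻¹ := by group
        _ = w * d⁻¹ * w⁻¹ := by rw [hzd]
        _ = w * (d * d) * w⁻¹ := by
          rw [inv_eq_of_mul_eq_one_right (show d * (d * d) = 1 by rw [← pow_three, hd3])]
        _ = w * d * w⁻¹ * (w * d * w⁻¹) := by group
    rw [toQ_mul, toQ_mul, toQ_mul, hg] at hCs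
    have hXc : Commute (ev (FreeGroup.mk (wX (u.map fun p => (p.1.castSucc, p.2))))) (emb e C) := by
      rw [hX, hC, hc]
      show w * emb e Y * w⁻¹ * (w * d * w⁻¹) = w * d * w⁻¹ * (w * emb e Y * w⁻¹)
      calc w * emb e Y * w⁻¹ * (w * d * w⁻¹) = w * (emb e Y * d) * w⁻¹ := by group
        _ = w * (d * emb e Y) * w⁻¹ := by rw [hdY.eq]
        _ = w * d * w⁻¹ * (w * emb e Y * w⁻¹) := by group
    have hA' : toQ (g 1 * g 0 * g 1) = (1, 0, 1, 1) := by
      rw [toQ_mul, toQ_mul, hg, hg]; decide +kernel
    rcases fixed_three _ (toQ_mem C) (by rw [← toQ_mul, ← toQ_mul, hC3, toQ_one])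
        (fun h => hd1 (by
          rw [toQ_injective (h.trans toQ_one.symm), map_one, hc] at hC
          exact conj_eq_one_iff.1 hC.symm)) hCs with h | h | h | h
    · left
      rwa [toQ_injective (h.trans (hg 0).symm)] at hXc
    · left
      have hAC : C * C = g 0 := toQ_injective (by rw [toQ_mul, h, hg]; exact transpose_facts.2.1)
      rw [← hAC, map_mul]
      exact hXc.mul_right hXc
    · right
      rwa [toQ_injective (h.trans hA'.symm)] at hXc
    · right
      have hAC : C * C = g 1 * g 0 * g 1 := toQ_injective (by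
        rw [toQ_mul, h, hA']; exact transpose_facts.2.2)
      rw [← hAC, map_mul]
      exact hXc.mul_right hXc
  -- the subgroup part of a homomorphism lands in the centralizer
  have hsub : ∀ (RL : List Word) (φ : PresentedGroup (wordRels RL) →* G),
      (∀ x, φ (PresentedGroup.mk _ x) = ev x) →
      (Data.sub (wordRels RL) [FreeGroup.of 0, FreeGroup.of 1, FreeGroup.of 2]).map φ ≤
        Subgroup.centralizer ({z} : Set G) := by
    intro RL φ hφ
    rw [Data.sub, Subgroup.map_map, MonoidHom.map_closure, Subgroup.closure_le]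
    rintro _ ⟨x, hx, rfl⟩
    rw [MonoidHom.comp_apply, hφ]
    simp only [List.mem_cons, List.not_mem_nil, or_false] at hx
    rcases hx with rfl | rfl | rfl <;> simp [hev, f, emb_mem]
  have hlift : ∀ (RL : List Word), (∀ l ∈ RL, ev (FreeGroup.mk l) = 1) →
      ∃ φ : PresentedGroup (wordRels RL) →* G, ∀ x, φ (PresentedGroup.mk _ x) = ev x := by
    intro RL h
    have hr : ∀ r ∈ wordRels RL, FreeGroup.lift f r = 1 := by
      intro r hr
      obtain ⟨l, hl, rfl⟩ := List.mem_map.1 hr
      exact h l hl
    exact ⟨PresentedGroup.toGroup hr, fun x => DFunLike.congr_fun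
      (FreeGroup.ext_hom ((PresentedGroup.toGroup hr).comp (PresentedGroup.mk _)) ev fun i => by
        rw [MonoidHom.comp_apply, hev, FreeGroup.lift_apply_of]
        exact PresentedGroup.toGroup.of hr) x⟩
  have collapse : ∀ (RL : List Word),
      ((Data.sub (wordRels RL) [FreeGroup.of 0, FreeGroup.of 1, FreeGroup.of 2]).index ≠ 0 ∧
        (Data.sub (wordRels RL) [FreeGroup.of 0, FreeGroup.of 1, FreeGroup.of 2]).index ≤ 1) →
      (∀ l ∈ RL, ev (FreeGroup.mk l) = 1) → False := by
    intro RL hidx h
    obtain ⟨φ, hφ⟩ := hlift RL h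
    have hle := hsub RL φ hφ
    have htop : Data.sub (wordRels RL) [FreeGroup.of 0, FreeGroup.of 1, FreeGroup.of 2] = ⊤ :=
      Subgroup.index_eq_one.1 (by omega)
    rw [htop] at hle
    refine hwn (hle ⟨PresentedGroup.mk _ (FreeGroup.of 3), Subgroup.mem_top _, ?_⟩)
    rw [hφ]; simp [hev, f]
  have hY1 := key [(0, false), (1, true), (0, true)] pairY1 hU1 rfl pair_one
  have hY2 := key [(0, true), (1, true), (2, true), (1, true)] pairY2 hU2 rfl pair_two
  have hcomm := lift_comm f f1 f2
  rcases hY1 with h1 | h1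
  rotate_left
  · refine (collapse _ L33CollapseA.index_bound fun l hl => ?_).elim
    rw [collapseA_words, List.mem_append] at hl
    rcases hl with hl | hl
    · exact hbase l hl
    · rw [List.mem_singleton] at hl
      exact hl ▸ hcomm _ _ (by rw [← hev, hA'v]; exact h1)
  rcases hY2 with h2 | h2
  · refine (collapse _ L33CollapseB.index_bound fun l hl => ?_).elim
    rw [collapseB_words, List.mem_append] at hl
    rcases hl with hl | hl
    · exact hbase l hl
    · rw [List.mem_singleton] at hl
      exact hl ▸ hcomm _ _ (by rw [← hev, hAv]; exact h2)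
  obtain ⟨ψ, hψ⟩ := hlift L33Index117.relWords (fun l hl => by
    rw [index117_words, List.mem_append] at hl
    rcases hl with hl | hl
    · exact hbase l hl
    · simp only [List.mem_cons, List.not_mem_nil, or_false] at hl
      rcases hl with rfl | rfl
      · exact hcomm _ _ (by rw [← hev, hAv]; exact h1)
      · exact hcomm _ _ (by rw [← hev, hA'v]; exact h2))
  refine ⟨ψ, MonoidHom.range_eq_top.1 (generate e hz hG hfus _ ?_ (hg 2) (w := w) ?_ hwz)⟩
  · intro x hx
    obtain ⟨X, rfl⟩ := exists_emb e hx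
    have hgen : ∀ i, emb e (g i) ∈ ψ.range := fun i =>
      ⟨PresentedGroup.mk _ (FreeGroup.of i.castSucc), by
        rw [hψ, hev, FreeGroup.lift_apply_of]
        exact congrFun hcast i⟩
    have : ∀ n : ℕ, ∀ q ∈ reach n, ∀ X : GL23, toQ X = q → emb e X ∈ ψ.range := by
      intro n
      induction n with
      | zero =>
        intro q hq X hX
        rw [reach, Finset.mem_singleton] at hq
        rw [toQ_injective ((hX.trans hq).trans toQ_one.symm), map_one]
        exact one_mem _
      | succ n ih =>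
        intro q hq X hX
        rw [reach, Finset.mem_union, Finset.mem_union, Finset.mem_union] at hq
        have step : ∀ i, q ∈ (reach n).image (fun x => qmul x (genQ i)) → emb e X ∈ ψ.range := by
          intro i hi
          obtain ⟨p, hp, hpq⟩ := Finset.mem_image.1 hi
          have hP : toQ (X * (g i)⁻¹) = p := by
            have h1 : ∀ P : GL23, toQ P = p → X = P * g i := fun P hP =>
              toQ_injective (by rw [hX, toQ_mul, hP, hg, hpq])
            obtain ⟨P, hP⟩ : ∃ P : GL23, toQ P = p := by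
              by_cases hpe : p ∈ els
              · exact toQ_surj hpe
              · exfalso
                have hX' := toQ_mem X
                rw [hX, ← hpq] at hX'
                apply hpe
                refine Finset.mem_filter.2 ⟨Finset.mem_univ _, fun h0 => ?_⟩
                refine (Finset.mem_filter.1 hX').2 ?_
                have hdet : ∀ x y : Q, qdet (qmul x y) = qdet x * qdet y := fun x y => by
                  simp only [qdet, qmul]; ring
                rw [hdet, h0, zero_mul]
            rw [h1 P hP, mul_inv_cancel_right, hP]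
          have := mul_mem (ih p hp _ hP) (hgen i)
          rwa [← map_mul, inv_mul_cancel_right] at this
        rcases hq with ((hq | hq) | hq) | hq
        · exact ih q hq X hX
        · exact step 0 hq
        · exact step 1 hq
        · exact step 2 hq
    exact this 10 _ (els_reach (toQ_mem X)) X rfl
  · exact ⟨PresentedGroup.mk _ (FreeGroup.of 3), by rw [hψ]; simp [hev, f]⟩

end

end Cfsg.Agent.L33Rec
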