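import Cfsg.Agent.L33Rec.Words

/-!
The presented group has at most 5616 elements.
-/

set_option autoImplicit false

namespace Cfsg.Agent.L33Rec

open Cfsg.Agent.CosetCert

/-- The presented group. -/
abbrev Gamma := PresentedGroup (wordRels L33Index117.relWords)

theorem base_mem {l : Word} (h : l ∈ baseWords) : l ∈ L33Index117.relWords := by
  rw [index117_words]
  exact List.mem_append_left _ h

theorem gamma_card : Finite Gamma ∧ Nat.card Gamma ≤ 5616 := by
  have hrels : ∀ l ∈ GL23Order48.relWords,
      PresentedGroup.mk (wordRels L33Index117.relWords)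
        (FreeGroup.mk (l.map fun a => (a.1.castSucc, a.2))) = 1 := fun l hl =>
    PresentedGroup.one_of_mem (List.mem_map_of_mem (base_mem (by
      rw [base_eq]
      exact List.mem_append_left _ (List.mem_map_of_mem hl))))
  obtain ⟨ρ, hρ⟩ := exists_rename GL23Order48.relWords Fin.castSucc hrels
  have h0 : Data.sub (wordRels GL23Order48.relWords) GL23Order48.subGens = ⊥ := by
    simp [Data.sub, GL23Order48.subGens]
  have hb := GL23Order48.index_bound
  rw [h0, Subgroup.index_bot] at hb
  have : Finite (PresentedGroup (wordRels GL23Order48.relWords)) :=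
    (Nat.card_ne_zero.1 hb.1).2
  have hT : Finite ρ.range ∧ Nat.card ρ.range ≤ 48 :=
    ⟨Finite.of_surjective _ ρ.rangeRestrict_surjective,
      (Nat.card_le_card_of_surjective _ ρ.rangeRestrict_surjective).trans hb.2⟩
  have hle : (Data.sub (wordRels L33Index117.relWords) L33Index117.subGens).map
      (MonoidHom.id Gamma) ≤ ρ.range := by
    rw [Subgroup.map_id, Data.sub, MonoidHom.map_closure, Subgroup.closure_le]
    rintro _ ⟨s, hs, rfl⟩
    simp only [L33Index117.subGens, List.mem_cons, List.not_mem_nil, or_false] at hs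
    rcases hs with rfl | rfl | rfl
    · exact ⟨PresentedGroup.mk _ (FreeGroup.of 0), (hρ _).trans (by rw [FreeGroup.map.of]; rfl)⟩
    · exact ⟨PresentedGroup.mk _ (FreeGroup.of 1), (hρ _).trans (by rw [FreeGroup.map.of]; rfl)⟩
    · exact ⟨PresentedGroup.mk _ (FreeGroup.of 2), (hρ _).trans (by rw [FreeGroup.map.of]; rfl)⟩
  obtain ⟨hf, hc⟩ := card_range_le (MonoidHom.id Gamma) _ L33Index117.index_bound hT hle
  rw [MonoidHom.range_eq_top.2 (fun x => ⟨x, rfl⟩)] at hf hc
  have : Finite Gamma := Finite.of_equiv _ Subgroup.topEquiv.toEquiv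
  refine ⟨this, ?_⟩
  rw [Subgroup.card_top] at hc
  exact hc.trans (by norm_num)

/-- A homomorphism onto a group of order 5616 is an isomorphism. -/
theorem gamma_iso {H : Type*} [Group H] (hH : Nat.card H = 5616) (ψ : Gamma →* H)
    (hψ : Function.Surjective ψ) : Nonempty (Gamma ≃* H) := by
  obtain ⟨hf, hc⟩ := gamma_card
  have : Finite H := Finite.of_surjective ψ hψ
  exact ⟨MulEquiv.ofBijective ψ ((Nat.bijective_iff_surjective_and_card ψ).2
    ⟨hψ, le_antisymm (hc.trans hH.ge) (Nat.card_le_card_of_surjective ψ hψ)⟩)⟩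

end Cfsg.Agent.L33Rec
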