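import Cfsg.Agent.L33Rec.Thirteen
import Mathlib.GroupTheory.FixedPointFree

/-!
The centralizer of an element of order three commuting with an involution, in a simple group of
order 5616 with involution centralizer `GL(2,3)`.
-/

set_option autoImplicit false

namespace Cfsg.Agent.L33Rec

open Cfsg.Agent.InvolGL23
open Cfsg.Agent.S0197 (emb emb_injective emb_mem exists_emb emb_e emb_eq_z z_sq z_ne)

universe u

/-- The hypotheses on a matrix of order three and a reflection inverting it. -/
structure Pair (q s : Q) : Prop where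
  mem_q : q ∈ els
  mem_s : s ∈ els
  cube : qmul q (qmul q q) = qone
  ne : q ≠ qone
  sq : qmul s s = qone
  ne_s : s ≠ qone ∧ s ≠ qneg
  inv : qmul (qmul s q) s = qmul q q
  cent : (els.filter fun k => qmul q k = qmul k q).card = 6
  powers : ∀ k ∈ els, qmul q k = qmul k q → qmul k (qmul k k) = qone →
    k = qone ∨ k = q ∨ k = qmul q q
  conj : ∀ k ∈ els, qmul k (qmul k k) = qone → k ≠ qone → ∃ g ∈ els, qmul g q = qmul k g

section

variable {G : Type u} [Group G] [Finite G] {z : G}
  (e : Subgroup.centralizer ({z} : Set G) ≃* Matrix.GeneralLinearGroup (Fin 2) (ZMod 3))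

local notation "GL23" => Matrix.GeneralLinearGroup (Fin 2) (ZMod 3)

theorem heavy_conj (g x : G) :
    Nat.card (Subgroup.centralizer ({g * x * g⁻¹} : Set G)) =
      Nat.card (Subgroup.centralizer ({x} : Set G)) := by
  refine (Nat.card_congr (Equiv.subtypeEquiv (MulAut.conj g).toEquiv fun h => ?_)).symm
  simp only [Subgroup.mem_centralizer_singleton_iff, MulEquiv.toEquiv_eq_coe, MulEquiv.coe_toEquiv,
    MulAut.conj_apply]
  constructor
  · intro hh
    calc g * h * g⁻¹ * (g * x * g⁻¹) = g * (h * x) * g⁻¹ := by group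
      _ = g * (x * h) * g⁻¹ := by rw [hh]
      _ = g * x * g⁻¹ * (g * h * g⁻¹) := by group
  · intro hh
    calc h * x = g⁻¹ * (g * h * g⁻¹ * (g * x * g⁻¹)) * g := by group
      _ = g⁻¹ * (g * x * g⁻¹ * (g * h * g⁻¹)) * g := by rw [hh]
      _ = x * h := by group

theorem heavy_sq {x : G} (hx : x ^ 3 = 1) :
    Subgroup.centralizer ({x ^ 2} : Set G) = Subgroup.centralizer ({x} : Set G) := by
  ext g
  rw [Subgroup.mem_centralizer_singleton_iff, Subgroup.mem_centralizer_singleton_iff]
  refine ⟨fun h => ?_, fun h => (Commute.pow_right h 2).eq⟩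
  have := Commute.pow_right (show Commute g (x ^ 2) from h) 2
  rw [← pow_mul, show 2 * 2 = 3 + 1 by norm_num, pow_succ, hx, one_mul] at this
  exact this.eq

include e in
/-- An element of order three commuting with an involution has the centralizer of the model. -/
theorem exists_conj_of_commute (hz : orderOf z = 2) (hG : Nat.card G = 5616)
    (hfus : ∀ g : GL23, g * g = 1 → g ≠ 1 → ∃ w, w * z * w⁻¹ = emb e g)
    {q s : Q} (hp : Pair q s) {Y : GL23} (hY : toQ Y = q) {k v : G} (hk : k ^ 3 = 1) (hk1 : k ≠ 1)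
    (hv : orderOf v = 2) (hkv : Commute k v) : ∃ g, g * emb e Y * g⁻¹ = k := by
  obtain ⟨w, hw⟩ := invol_conjugate e hz (by rw [hG]) hfus hv
  have hm : w⁻¹ * k * w ∈ Subgroup.centralizer ({z} : Set G) := by
    rw [Subgroup.mem_centralizer_singleton_iff]
    calc w⁻¹ * k * w * z = w⁻¹ * (k * (w * z * w⁻¹)) * w := by group
      _ = w⁻¹ * ((w * z * w⁻¹) * k) * w := by rw [hw, hkv.eq]
      _ = z * (w⁻¹ * k * w) := by group
  obtain ⟨K, hK⟩ := exists_emb e hm
  have h3 : K * (K * K) = 1 := emb_injective e (by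
    rw [map_mul, map_mul, map_one, hK,
      show w⁻¹ * k * w * (w⁻¹ * k * w * (w⁻¹ * k * w)) = w⁻¹ * (k * k * k) * w by group,
      ← pow_three', hk]
    group)
  obtain ⟨g, hg, he⟩ := hp.conj _ (toQ_mem K) (by rw [← toQ_mul, ← toQ_mul, h3, toQ_one])
    (fun h => hk1 (by
      rw [toQ_injective (h.trans toQ_one.symm), map_one] at hK
      calc k = w * (w⁻¹ * k * w) * w⁻¹ := by group
        _ = 1 := by rw [← hK]; group))
  obtain ⟨g, rfl⟩ := toQ_surj hg
  rw [← hY, ← toQ_mul, ← toQ_mul] at he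
  refine ⟨w * emb e g, ?_⟩
  calc w * emb e g * emb e Y * (w * emb e g)⁻¹
      = w * (emb e g * emb e Y) * (emb e g)⁻¹ * w⁻¹ := by group
    _ = w * (emb e K * emb e g) * (emb e g)⁻¹ * w⁻¹ := by rw [← map_mul, toQ_injective he, map_mul]
    _ = k := by rw [hK]; group

include e in
/-- The centralizer of the element has order six times a power of three. -/
theorem card_cent_three [IsSimpleGroup G] (hz : orderOf z = 2) (hG : Nat.card G = 5616)
    {q s : Q} (hp : Pair q s) {Y : GL23} (hY : toQ Y = q) :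
    ∃ i ≤ 2, Nat.card (Subgroup.centralizer ({emb e Y} : Set G)) = 6 * 3 ^ i := by
  have : Fact (Nat.Prime 2) := ⟨Nat.prime_two⟩
  have : Fact (Nat.Prime 13) := ⟨by norm_num⟩
  set y := emb e Y with hy
  set C := Subgroup.centralizer ({y} : Set G) with hC
  have hyC : y ∈ C := Subgroup.mem_centralizer_singleton_iff.2 rfl
  have hyz : y * z = z * y := Subgroup.mem_centralizer_singleton_iff.1 (emb_mem e Y)
  have hzC : z ∈ C := Subgroup.mem_centralizer_singleton_iff.2 hyz.symm
  have hy3 : orderOf y = 3 := by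
    have : Fact (Nat.Prime 3) := ⟨Nat.prime_three⟩
    refine orderOf_eq_prime ?_ fun h => hp.ne ?_
    · rw [hy, ← map_pow, show Y ^ 3 = 1 from toQ_injective (by
        rw [pow_three, toQ_mul, toQ_mul, toQ_one, hY]; exact hp.cube), map_one]
    · rw [← hY, show Y = 1 from emb_injective e (by rw [map_one]; exact h), toQ_one]
  have h6 : Nat.card (C ⊓ Subgroup.centralizer ({z} : Set G) : Subgroup G) = 6 := by
    let f : (C ⊓ Subgroup.centralizer ({z} : Set G) : Subgroup G) →
        {k // k ∈ els.filter fun k => qmul q k = qmul k q} := fun c =>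
      ⟨toQ (e ⟨c.1, c.2.2⟩), Finset.mem_filter.2 ⟨toQ_mem _, by
        rw [← hY, ← toQ_mul, ← toQ_mul]
        congr 1
        refine emb_injective e ?_
        rw [map_mul, map_mul, emb_e]
        exact (Subgroup.mem_centralizer_singleton_iff.1 c.2.1).symm⟩⟩
    have hb : Function.Bijective f := by
      refine ⟨fun a b h => Subtype.ext (congrArg (fun x : Subgroup.centralizer ({z} : Set G) => (x : G))
        (e.injective (toQ_injective (congrArg Subtype.val h)))), fun k => ?_⟩
      obtain ⟨hk, hk'⟩ := Finset.mem_filter.1 k.2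
      obtain ⟨K, hK⟩ := toQ_surj hk
      have hKY : K * Y = Y * K := toQ_injective (by rw [toQ_mul, toQ_mul, hY, hK, hk'])
      refine ⟨⟨emb e K, Subgroup.mem_centralizer_singleton_iff.2
        (by rw [hy, ← map_mul, hKY, map_mul]), emb_mem e K⟩, Subtype.ext ?_⟩
      show toQ (e ⟨emb e K, _⟩) = k.1
      rw [← hK]
      exact congrArg toQ (e.apply_symm_apply K)
    rw [Nat.card_congr (Equiv.ofBijective f hb), Nat.card_eq_fintype_card, Fintype.card_coe, hp.cent]
  have h6C : 6 ∣ Nat.card C := h6 ▸ Subgroup.card_dvd_of_le inf_le_left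
  obtain ⟨m, hm⟩ := h6C
  have hdvd : 6 * m ∣ 5616 := hG ▸ hm ▸ Subgroup.card_subgroup_dvd_card C
  have h13 : ¬ 13 ∣ Nat.card C := by
    intro h
    obtain ⟨x, hx⟩ := exists_prime_orderOf_dvd_card' 13 h
    exact not_commute_thirteen e hz hG (show orderOf (x : G) = 13 by rw [Subgroup.orderOf_coe, hx])
      hy3 (Subgroup.mem_centralizer_singleton_iff.1 x.2)
  have h4 : ¬ 2 ^ 2 ∣ Nat.card C := by
    intro h
    have hzc : orderOf (⟨z, hzC⟩ : C) = 2 := by rw [Subgroup.orderOf_mk, hz]
    obtain ⟨H, hH, hzH⟩ := Sylow.exists_subgroup_card_pow_prime_le 2 h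
      (Subgroup.zpowers (⟨z, hzC⟩ : C)) (n := 1) (by rw [Nat.card_zpowers, hzc, pow_one])
      (by norm_num)
    have hle : H.map C.subtype ≤ C ⊓ Subgroup.centralizer ({z} : Set G) := by
      rintro _ ⟨c, hc, rfl⟩
      refine ⟨c.2, Subgroup.mem_centralizer_singleton_iff.2 ?_⟩
      have hcomm := IsPGroup.commutative_of_card_eq_prime_sq hH
      exact congrArg (fun a : H => ((a : C) : G))
        (hcomm ⟨c, hc⟩ ⟨⟨z, hzC⟩, hzH (Subgroup.mem_zpowers _)⟩)
    have := Subgroup.card_dvd_of_le hle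
    rw [Subgroup.card_map_of_injective C.subtype_injective, hH, h6] at this
    norm_num at this
  rw [hm] at h13 h4
  have hm936 : m ∣ 936 := Nat.dvd_of_mul_dvd_mul_left (k := 6) (by norm_num) (hdvd.trans (by norm_num))
  have hcop : Nat.Coprime m (8 * 13) := by
    refine Nat.Coprime.mul_right ?_ ((Nat.Prime.coprime_iff_not_dvd (by norm_num)).2
      fun h => h13 (Dvd.dvd.mul_left h 6)).symm
    rw [show (8 : ℕ) = 2 ^ 3 by norm_num]
    refine Nat.Coprime.pow_right _ (Nat.prime_two.coprime_iff_not_dvd.2 fun h => h4 ?_).symm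
    exact Dvd.dvd.trans (by norm_num) (mul_dvd_mul (show 2 ∣ 6 by norm_num) h)
  have h9 : m ∣ 9 := hcop.dvd_of_dvd_mul_left (hm936.trans (by norm_num))
  obtain ⟨i, hi, rfl⟩ := (Nat.dvd_prime_pow Nat.prime_three).1 (h9.trans (dvd_of_eq (by norm_num : 9 = 3 ^ 2)))
  exact ⟨i, hi, hm⟩

end

end Cfsg.Agent.L33Rec
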