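import Cfsg.Agent.S0197
import Cfsg.Agent.Coprime.Generation

/-!
A group without subgroup of index two having an involution with centralizer `GL(2,3)` is simple.
-/

set_option autoImplicit false

namespace Cfsg.Agent.L33Rec

open Cfsg.Agent.InvolGL23
open Cfsg.Agent.S0197 (emb emb_injective emb_mem exists_emb emb_e emb_eq_z z_sq z_ne SS MM subOf card_subOf)

universe u

section

variable {G : Type u} [Group G] {z : G}
  (e : Subgroup.centralizer ({z} : Set G) ≃* Matrix.GeneralLinearGroup (Fin 2) (ZMod 3))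

local notation "GL23" => Matrix.GeneralLinearGroup (Fin 2) (ZMod 3)

/-- The Sylow two-subgroup of `G` and the fusion of the involutions of the centraliser. -/
theorem fusion [Finite G] (hG2 : ∀ N : Subgroup G, N.Normal → N.index ≠ 2) (hz : orderOf z = 2) :
    Nat.card G % 32 = 16 ∧ ∀ g : GL23, g * g = 1 → g ≠ 1 → ∃ w, w * z * w⁻¹ = emb e g := by
  have hC : Nat.card (Subgroup.centralizer ({z} : Set G)) = 48 := by
    rw [Nat.card_congr e.toEquiv, card_gl23]
  obtain ⟨hsub, hqs, hq1, hts, htq, hns, hsc, hqc, htt⟩ := syl_facts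
  set S₀ := SS.map (emb e) with hS₀
  have hS₀c : Nat.card S₀ = 2 ^ 4 := by
    rw [hS₀, Subgroup.card_map_of_injective (emb_injective e), SS,
      card_subOf _ _ _ _ hsub, hsc]
    norm_num
  obtain ⟨S, hS⟩ := (IsPGroup.of_card hS₀c).exists_le_sylow
  have hS₀C : S₀ ≤ Subgroup.centralizer ({z} : Set G) := by
    rintro _ ⟨g, -, rfl⟩
    exact emb_mem e g
  have hzS : z ∈ S₀ := by
    obtain ⟨a, ha⟩ := toQ_surj (hsub hns)
    exact ⟨a, show toQ a ∈ syl from ha ▸ hns, emb_eq_z e hz ha⟩
  have hSeq : (S : Subgroup G) = S₀ := by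
    by_contra hne
    have hlt : S₀ < (S : Subgroup G) := lt_of_le_of_ne hS (Ne.symm hne)
    obtain ⟨x, hx, hx0⟩ := SetLike.exists_of_lt
      (Fusion.lt_inf_normalizer_of_isPGroup S.2 hlt)
    obtain ⟨hxS, hxN⟩ := hx
    have hw : x * z * x⁻¹ ∈ S₀ := (Subgroup.mem_normalizer_iff.1 hxN z).1 hzS
    obtain ⟨m, hm, hme⟩ := hw
    have hmz : toQ m = qneg := by
      refine syl_center _ hm ?_ (fun h => ?_) fun b hb => ?_
      · rw [← toQ_mul, ← toQ_one]
        congr 1
        refine emb_injective e ?_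
        rw [map_mul, map_one, hme, show x * z * x⁻¹ * (x * z * x⁻¹) = x * (z * z) * x⁻¹ by group,
          z_sq hz, mul_one, mul_inv_cancel]
      · rw [toQ_injective (h.trans toQ_one.symm), map_one] at hme
        exact z_ne hz (conj_eq_one_iff.1 hme.symm)
      · obtain ⟨b', rfl⟩ := toQ_surj (hsub hb)
        rw [← toQ_mul, ← toQ_mul]
        congr 1
        refine emb_injective e ?_
        rw [map_mul, map_mul, hme]
        have hb0 : x⁻¹ * emb e b' * x ∈ S₀ :=
          (Subgroup.mem_normalizer_iff''.1 hxN _).1 ⟨b', hb, rfl⟩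
        have hc := Subgroup.mem_centralizer_singleton_iff.1 (hS₀C hb0)
        calc x * z * x⁻¹ * emb e b' = x * (z * (x⁻¹ * emb e b' * x)) * x⁻¹ := by group
          _ = x * (x⁻¹ * emb e b' * x * z) * x⁻¹ := by rw [hc]
          _ = emb e b' * (x * z * x⁻¹) := by group
    rw [emb_eq_z e hz hmz] at hme
    have hxC : x ∈ Subgroup.centralizer ({z} : Set G) :=
      Subgroup.mem_centralizer_singleton_iff.2 (eq_mul_inv_iff_mul_eq.1 hme).symm
    have hT : S₀ = (S : Subgroup G) ⊓ Subgroup.centralizer ({z} : Set G) := by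
      refine Subgroup.eq_of_le_of_card_ge (le_inf hS hS₀C) ?_
      obtain ⟨n, hn⟩ := IsPGroup.iff_card.1
        (S.2.to_le (inf_le_left : (S : Subgroup G) ⊓ Subgroup.centralizer ({z} : Set G) ≤ S))
      rw [hn, hS₀c]
      refine Nat.pow_le_pow_right (by norm_num) (by_contra fun h5 => ?_)
      have h32 : 2 ^ 5 ∣ 48 := (pow_dvd_pow 2 (by omega : 5 ≤ n)).trans
        (hn ▸ hC ▸ Subgroup.card_dvd_of_le inf_le_right)
      norm_num at h32
    exact hx0 (hT ▸ ⟨hxS, hxC⟩)
  have hG : Nat.card G % 32 = 16 := by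
    have h := (S : Subgroup G).card_mul_index
    rw [hSeq, hS₀c] at h
    have hodd : ¬ 2 ∣ S₀.index := hSeq ▸ S.not_dvd_index
    omega
  refine ⟨hG, ?_⟩
  obtain ⟨t, ht⟩ := toQ_surj (hsub hts)
  have ht1 : t * t = 1 := toQ_injective (by rw [toQ_mul, ht, htt, toQ_one])
  have hM : (MM.map (emb e)).relIndex (S : Subgroup G) = 2 := by
    have h := ((MM.map (emb e)).subgroupOf (S : Subgroup G)).card_mul_index
    rw [Nat.card_congr (Subgroup.subgroupOfEquivOfLe (show MM.map (emb e) ≤ (S : Subgroup G) by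
          rw [hSeq]
          exact Subgroup.map_mono fun g hg => hqs hg)).toEquiv,
        Subgroup.card_map_of_injective (emb_injective e), MM,
        card_subOf _ _ _ _ (hqs.trans hsub), hqc, hSeq, hS₀c] at h
    rw [Subgroup.relIndex, hSeq, MM]
    omega
  have htC : ∃ w, w * z * w⁻¹ = emb e t := by
    by_contra hno
    obtain ⟨N, hN, hNi, -⟩ := TwoTransfer.exists_index_two S (MM.map (emb e)) hM (emb e t)
      (show emb e t ∈ (S : Subgroup G) by rw [hSeq]; exact ⟨t, show toQ t ∈ syl from ht ▸ hts, rfl⟩)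
      (fun k g hk _ => by
        have h2 : emb e t ^ 2 ^ k = 1 := by
          obtain ⟨j, rfl⟩ := Nat.exists_eq_add_of_le' hk
          rw [← map_pow, pow_succ', pow_mul, sq, ht1, one_pow, map_one]
        rw [h2, mul_one, inv_mul_cancel]
        exact one_mem _)
      (fun g _ hgM => by
        obtain ⟨m, hm, hme⟩ := hgM
        refine hno ⟨g, ?_⟩
        have hmz : toQ m = qneg := by
          refine quat_invol _ hm ?_ fun h => ?_
          · rw [← toQ_mul, ← toQ_one]
            congr 1
            refine emb_injective e ?_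
            rw [map_mul, map_one, hme]
            rw [show g⁻¹ * emb e t * g * (g⁻¹ * emb e t * g) = g⁻¹ * (emb e t * emb e t) * g by
              group, ← map_mul, ht1, map_one, mul_one, inv_mul_cancel]
          · rw [toQ_injective (h.trans toQ_one.symm), map_one] at hme
            have h9 : emb e t = emb e 1 := by
              rw [map_one]
              calc emb e t = g * (g⁻¹ * emb e t * g) * g⁻¹ := by group
                _ = 1 := by rw [← hme, mul_one, mul_inv_cancel]
            rw [emb_injective e h9, toQ_one] at ht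
            exact absurd ht (by decide)
        rw [emb_eq_z e hz hmz] at hme
        calc g * z * g⁻¹ = g * (g⁻¹ * emb e t * g) * g⁻¹ := congrArg (fun w => g * w * g⁻¹) hme
          _ = emb e t := by group)
    exact hG2 N hN hNi
  intro g hg hg1
  by_cases hgz : toQ g = qneg
  · exact ⟨1, by rw [emb_eq_z e hz hgz, one_mul, inv_one, mul_one]⟩
  obtain ⟨r, hr, hr'⟩ := invol_conj _ (toQ_mem g) (by rw [← toQ_mul, hg, toQ_one])
    (fun h => hg1 (toQ_injective (h.trans toQ_one.symm))) hgz
  obtain ⟨c, rfl⟩ := toQ_surj hr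
  rw [← ht, ← toQ_mul, ← toQ_mul] at hr'
  obtain ⟨w, hw⟩ := htC
  refine ⟨emb e c * w, ?_⟩
  rw [show emb e c * w * z * (emb e c * w)⁻¹ = emb e c * (w * z * w⁻¹) * (emb e c)⁻¹ by group, hw,
    ← map_mul, toQ_injective hr', map_mul, mul_inv_cancel_right]

end

end Cfsg.Agent.L33Rec
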