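import Cfsg.Agent.L33Rec.Bound
import Cfsg.Agent.L33Graph.Group
import Cfsg.Agent.Classical.LinearBasic

/-!
`PSL₃(3)` is a quotient of the presented group.
-/

set_option autoImplicit false

namespace Cfsg.Agent.L33Rec

open Cfsg.Agent.L33Graph (SL33 L33 proj proj_bijective card_L33)
open Cfsg.Agent.CosetCert (wordRels)

/-- The matrices of the letters. -/
def letterM : Fin 4 × Bool → Matrix (Fin 3) (Fin 3) (ZMod 3)
  | (0, true) => !![1, 1, 0; 0, 1, 0; 0, 0, 1]
  | (0, false) => !![1, 2, 0; 0, 1, 0; 0, 0, 1]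
  | (1, _) => !![0, 1, 0; 1, 0, 0; 0, 0, 2]
  | (2, _) => !![1, 0, 0; 0, 2, 0; 0, 0, 2]
  | (3, true) => !![0, 0, 1; 2, 0, 0; 0, 2, 0]
  | (3, false) => !![0, 2, 0; 0, 0, 2; 1, 0, 0]

theorem letterM_det : ∀ p : Fin 4 × Bool, (letterM p).det = 1 := by decide +kernel

/-- The letters in the special linear group. -/
def letterS (p : Fin 4 × Bool) : SL33 := ⟨letterM p, letterM_det p⟩

theorem letterM_inv : ∀ i : Fin 4, letterM (i, true) * letterM (i, false) = 1 := by decide +kernel

/-- The matrix of a word. -/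
def mval (l : Word) : Matrix (Fin 3) (Fin 3) (ZMod 3) := (l.map letterM).foldr (· * ·) 1

theorem model_relations : ∀ l ∈ L33Index117.relWords, mval l = 1 := by decide +kernel

theorem model_orders : mval [(0, true), (3, true)] ≠ 1 ∧
    mval ((List.replicate 13 ([(0, true), (3, true)] : Word)).flatten) = 1 ∧
    mval ((List.replicate 4 ([(0, true), (1, true)] : Word)).flatten) ≠ 1 ∧
    mval ((List.replicate 8 ([(0, true), (1, true)] : Word)).flatten) = 1 := by decide +kernel

theorem model_nine : mval (wX wU1 ++ wA) = mval (wA ++ wX wU1) ∧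
    mval (wX wU1 ++ wX wU1 ++ wX wU1) = 1 ∧ mval (wA ++ wA ++ wA) = 1 ∧
    ∀ i j k l : Fin 3,
      mval ((List.replicate (i : ℕ) wA).flatten ++ (List.replicate (j : ℕ) (wX wU1)).flatten) =
        mval ((List.replicate (k : ℕ) wA).flatten ++ (List.replicate (l : ℕ) (wX wU1)).flatten) →
      i = k ∧ j = l := by decide +kernel

theorem val_lift (l : Word) :
    (FreeGroup.lift (fun i => letterS (i, true)) (FreeGroup.mk l)).val = mval l := by
  induction l with
  | nil => rw [lift_mk_nil]; rfl
  | cons p t ih =>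
    rw [show p :: t = [p] ++ t from rfl, lift_mk_append, Matrix.SpecialLinearGroup.coe_mul, ih,
      lift_mk_single]
    obtain ⟨i, b⟩ := p
    cases b
    · have h : (letterS (i, true))⁻¹ = letterS (i, false) :=
        inv_eq_of_mul_eq_one_right (Subtype.ext (letterM_inv i))
      show ((letterS (i, true))⁻¹).val * _ = _
      rw [h]
      rfl
    · rfl

theorem model_surjective : ∃ ψ : Gamma →* L33, Function.Surjective ψ := by
  classical
  set ev := FreeGroup.lift (fun i => letterS (i, true)) with hev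
  have hr : ∀ r ∈ wordRels L33Index117.relWords, ev r = 1 := by
    intro r hr
    obtain ⟨l, hl, rfl⟩ := List.mem_map.1 hr
    exact Subtype.ext ((val_lift l).trans (model_relations l hl))
  let φ : Gamma →* SL33 := PresentedGroup.toGroup hr
  have hφ : ∀ l : Word, (φ (PresentedGroup.mk _ (FreeGroup.mk l))).val = mval l := fun l => by
    rw [← val_lift]
    rfl
  refine ⟨proj.comp φ, fun x => ?_⟩
  obtain ⟨y, rfl⟩ := proj_bijective.2 x
  suffices h : φ.range = ⊤ by
    obtain ⟨g, rfl⟩ := MonoidHom.range_eq_top.1 h y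
    exact ⟨g, rfl⟩
  have : Finite SL33 := Finite.of_injective _ proj_bijective.1
  have hval : ∀ (l : Word) (n : ℕ),
      ((φ (PresentedGroup.mk _ (FreeGroup.mk l))) ^ n).val = mval (List.replicate n l).flatten := by
    intro l n
    induction n with
    | zero => rfl
    | succ n ih =>
      rw [pow_succ', Matrix.SpecialLinearGroup.coe_mul, ih, hφ, List.replicate_succ,
        List.flatten_cons, ← val_lift l, ← val_lift, ← val_lift, ← Matrix.SpecialLinearGroup.coe_mul,
        ← lift_mk_append]
  have hmem : ∀ l : Word, φ (PresentedGroup.mk _ (FreeGroup.mk l)) ∈ φ.range := fun l => ⟨_, rfl⟩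
  obtain ⟨o1, o2, o3, o4⟩ := model_orders
  have h13 : 13 ∣ Nat.card φ.range := by
    have : Fact (Nat.Prime 13) := ⟨by norm_num⟩
    rw [← orderOf_eq_prime (x := φ (PresentedGroup.mk _ (FreeGroup.mk [(0, true), (3, true)])))
      (p := 13) (Subtype.ext ((hval _ 13).trans o2)) (fun h => o1 (by rw [← hφ, h]; rfl)),
      ← Subgroup.orderOf_mk _ (hmem _)]
    exact orderOf_dvd_natCard _
  have h8 : 8 ∣ Nat.card φ.range := by
    have : Fact (Nat.Prime 2) := ⟨Nat.prime_two⟩
    rw [show 8 = 2 ^ (2 + 1) by norm_num,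
      ← orderOf_eq_prime_pow (x := φ (PresentedGroup.mk _ (FreeGroup.mk [(0, true), (1, true)])))
      (p := 2) (n := 2) (fun h => o3 ((hval _ 4).symm.trans (congrArg Subtype.val h)))
      (Subtype.ext ((hval _ 8).trans o4)), ← Subgroup.orderOf_mk _ (hmem _)]
    exact orderOf_dvd_natCard _
  have h9 : 9 ∣ Nat.card φ.range := by
    obtain ⟨c1, c2, c3, c4⟩ := model_nine
    set a := φ (PresentedGroup.mk _ (FreeGroup.mk wA)) with ha
    set b := φ (PresentedGroup.mk _ (FreeGroup.mk (wX wU1))) with hb
    have hab : Commute a b := Subtype.ext (by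
      show (a * b).val = (b * a).val
      rw [ha, hb, Matrix.SpecialLinearGroup.coe_mul, Matrix.SpecialLinearGroup.coe_mul, hφ, hφ,
        ← val_lift, ← val_lift (wX wU1), ← Matrix.SpecialLinearGroup.coe_mul,
        ← Matrix.SpecialLinearGroup.coe_mul, ← lift_mk_append, ← lift_mk_append, val_lift, val_lift]
      exact c1.symm)
    have ha3 : a ^ 3 = 1 := Subtype.ext (by
      rw [ha, hval]; exact (show _ = mval (wA ++ wA ++ wA) from rfl).trans c3)
    have hb3 : b ^ 3 = 1 := Subtype.ext (by
      rw [hb, hval, show (List.replicate 3 (wX wU1)).flatten = wX wU1 ++ wX wU1 ++ wX wU1 from rfl]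
      exact c2)
    let ψ : Multiplicative (ZMod 3) × Multiplicative (ZMod 3) →* φ.range :=
      { toFun := fun p => ⟨a ^ (Multiplicative.toAdd p.1).val * b ^ (Multiplicative.toAdd p.2).val,
          φ.range.mul_mem (pow_mem (hmem _) _) (pow_mem (hmem _) _)⟩
        map_one' := Subtype.ext (by simp)
        map_mul' := fun p q => Subtype.ext (by
          show a ^ _ * b ^ _ = (a ^ _ * b ^ _) * (a ^ _ * b ^ _)
          rw [Prod.fst_mul, Prod.snd_mul, toAdd_mul, toAdd_mul, ZMod.val_add, ZMod.val_add,
            ← pow_eq_pow_mod _ ha3, ← pow_eq_pow_mod _ hb3, pow_add, pow_add]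
          exact (hab.pow_pow _ _).mul_mul_mul_comm _ _) }
    have hinj : Function.Injective ψ := by
      intro p q h
      have h' := congrArg (fun g : φ.range => (g : SL33).val) h
      change (a ^ _ * b ^ _).val = (a ^ _ * b ^ _).val at h'
      simp only [ha, hb, Matrix.SpecialLinearGroup.coe_mul, hval] at h'
      have hap : ∀ l l' : Word, mval l * mval l' = mval (l ++ l') := fun l l' => by
        rw [← val_lift, ← val_lift, ← val_lift, ← Matrix.SpecialLinearGroup.coe_mul, lift_mk_append]
      rw [hap, hap] at h'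
      obtain ⟨e1, e2⟩ := c4 (Multiplicative.toAdd p.1) (Multiplicative.toAdd p.2)
        (Multiplicative.toAdd q.1) (Multiplicative.toAdd q.2) h'
      exact Prod.ext (Multiplicative.toAdd.injective e1) (Multiplicative.toAdd.injective e2)
    have hd := Subgroup.card_dvd_of_injective ψ hinj
    rw [Nat.card_prod, show Nat.card (Multiplicative (ZMod 3)) = 3 by simp] at hd
    exact hd
  have h936 : 936 ∣ Nat.card φ.range := by
    rw [show 936 = 13 * 8 * 9 by norm_num]
    exact Nat.Coprime.mul_dvd_of_dvd_of_dvd (by norm_num)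
      (Nat.Coprime.mul_dvd_of_dvd_of_dvd (by norm_num) h13 h8) h9
  have hsimple : IsSimpleGroup SL33 := by
    have : IsSimpleGroup L33 := Cfsg.Agent.Classical.isSimpleGroup_psl (Or.inl (by simp))
    exact (MulEquiv.ofBijective proj proj_bijective).isSimpleGroup
  have hmul := φ.range.card_mul_index
  rw [Cfsg.Agent.L33Graph.card_SL33] at hmul
  obtain ⟨m, hm⟩ := h936
  have hidx : φ.range.index ≤ 6 := by
    by_contra hlt
    have hm0 : 0 < m := Nat.pos_of_ne_zero fun h => by simp [h] at hm
    have := Nat.mul_le_mul (show 936 ≤ Nat.card φ.range by omega) (show 7 ≤ φ.range.index by omega)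
    omega
  by_contra hne
  have hker : (MulAction.toPermHom SL33 (SL33 ⧸ φ.range)).ker = ⊥ := by
    refine (MonoidHom.normal_ker _).eq_bot_or_eq_top.resolve_right fun h => hne ?_
    rw [← Subgroup.normalCore_eq_ker] at h
    exact eq_top_iff.2 (h.ge.trans (Subgroup.normalCore_le _))
  have hd := Subgroup.card_dvd_of_injective _ ((MonoidHom.ker_eq_bot_iff _).1 hker)
  rw [Cfsg.Agent.L33Graph.card_SL33, Nat.card_perm,
    show Nat.card (SL33 ⧸ φ.range) = φ.range.index from rfl] at hd
  exact absurd (hd.trans (Nat.factorial_dvd_factorial hidx)) (by decide)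

end Cfsg.Agent.L33Rec
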