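import Cfsg.Agent.L33Rec.Simple

/-!
In a simple group of order 5616 with an involution centralizer `GL(2,3)` no element of order three
commutes with one of order thirteen.
-/

set_option autoImplicit false

namespace Cfsg.Agent.L33Rec

open Cfsg.Agent.InvolGL23
open Cfsg.Agent.S0197 (emb emb_injective emb_mem exists_emb emb_e emb_eq_z z_sq z_ne SS MM subOf card_subOf)

universe u

theorem syl_commutator : ∃ a ∈ syl, ∃ b ∈ syl, qmul qneg (qmul b a) = qmul a b := by decide +kernel

theorem divisors_432 : ∀ n ≤ 432, n ∣ 432 → n % 13 = 1 → n = 1 ∨ n = 27 ∨ n = 144 := by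
  decide +kernel

variable {G : Type u} [Group G] [Finite G] {z : G}
  (e : Subgroup.centralizer ({z} : Set G) ≃* Matrix.GeneralLinearGroup (Fin 2) (ZMod 3))

include e in
/-- Elements of orders three and thirteen do not commute. -/
theorem not_commute_thirteen [IsSimpleGroup G] (hz : orderOf z = 2) (hG : Nat.card G = 5616)
    {x y : G} (hx : orderOf x = 13) (hy : orderOf y = 3) : ¬ Commute x y := by
  intro hxy
  have : Fact (Nat.Prime 13) := ⟨by norm_num⟩
  have : Fact (Nat.Prime 2) := ⟨Nat.prime_two⟩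
  have hf13 : (Nat.card G).factorization 13 = 1 := by
    rw [hG, show 5616 = 13 ^ 1 * 432 by norm_num, Nat.factorization_mul (by norm_num) (by norm_num),
      Nat.Prime.factorization_pow (by norm_num)]
    simp [Nat.factorization_eq_zero_of_not_dvd (show ¬ 13 ∣ 432 by norm_num)]
  have hPc : Nat.card (Subgroup.zpowers x) = 13 := by rw [Nat.card_zpowers, hx]
  set P : Sylow 13 G := Sylow.ofCard (Subgroup.zpowers x) (by rw [hf13, hPc, pow_one]) with hP
  have hPx : (P : Subgroup G) = Subgroup.zpowers x := rfl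
  set N := Subgroup.normalizer ((P : Subgroup G) : Set G) with hNdef
  have hNC : Subgroup.centralizer ({x} : Set G) ≤ N := by
    intro g hg
    rw [hNdef, hPx, Subgroup.mem_normalizer_iff]
    have hg' : g * x * g⁻¹ = x := by
      rw [Subgroup.mem_centralizer_singleton_iff.1 hg, mul_inv_cancel_right]
    intro k
    constructor
    · rintro ⟨i, rfl⟩
      exact ⟨i, by rw [← conj_zpow, hg']⟩
    · rintro ⟨i, hi⟩
      refine ⟨i, ?_⟩
      have hk : g * x ^ i * g⁻¹ = g * k * g⁻¹ := by rw [← conj_zpow, hg']; exact hi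
      exact mul_left_cancel (mul_right_cancel hk)
  have hmod : N.index % 13 = 1 := by
    have h := card_sylow_modEq_one 13 G
    rw [P.card_eq_index_normalizer] at h
    exact h
  have hPN : (P : Subgroup G) ≤ N := Subgroup.le_normalizer
  have h13 : 13 ∣ Nat.card N := hPc ▸ hPx ▸ Subgroup.card_dvd_of_le hPN
  have hmul : Nat.card N * N.index = 5616 := hG ▸ N.card_mul_index
  obtain ⟨m, hm⟩ := h13
  have hm' : m * N.index = 432 := by rw [hm, mul_assoc] at hmul; omega
  rcases divisors_432 _ (Nat.le_of_dvd (by norm_num) ⟨m, by rw [← hm', mul_comm]⟩)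
      ⟨m, by rw [← hm', mul_comm]⟩ hmod with hn | hn | hn
  · have htop : N = ⊤ := Subgroup.index_eq_one.1 hn
    have : (P : Subgroup G).Normal := Subgroup.normalizer_eq_top_iff.1 htop
    rcases this.eq_bot_or_eq_top with h | h
    · rw [hPx, Subgroup.zpowers_eq_bot] at h
      rw [h, orderOf_one] at hx
      norm_num at hx
    · rw [hPx] at h
      rw [h, Subgroup.card_top, hG] at hPc
      norm_num at hPc
  · have hm16 : m = 16 := by rw [hn] at hm'; omega
    have h16 : Nat.card G % 32 = 16 := by rw [hG]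
    obtain ⟨hsub, -, -, -, -, hns, hsc, -, -⟩ := syl_facts
    set S₀ := SS.map (emb e) with hS₀
    have hS₀c : Nat.card S₀ = 2 ^ 4 := by
      rw [hS₀, Subgroup.card_map_of_injective (emb_injective e), SS,
        card_subOf _ _ _ _ hsub, hsc]
      norm_num
    have hf2 : (Nat.card G).factorization 2 = 4 := by
      rw [hG, show 5616 = 2 ^ 4 * 351 by norm_num, Nat.factorization_mul (by norm_num) (by norm_num),
        Nat.Prime.factorization_pow (by norm_num)]
      simp [Nat.factorization_eq_zero_of_not_dvd (show ¬ 2 ∣ 351 by norm_num)]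
    set S : Sylow 2 G := Sylow.ofCard S₀ (by rw [hS₀c, hf2]) with hS
    obtain ⟨T⟩ := (inferInstance : Nonempty (Sylow 2 N))
    have hTc : Nat.card T = 2 ^ 4 := by
      rw [T.card_eq_multiplicity, hm, hm16, show 13 * 16 = 2 ^ 4 * 13 by norm_num,
        Nat.factorization_mul (by norm_num) (by norm_num),
        Nat.Prime.factorization_pow (by norm_num)]
      simp [Nat.factorization_eq_zero_of_not_dvd (show ¬ 2 ∣ 13 by norm_num)]
    have hT'c : Nat.card ((T : Subgroup N).map N.subtype) = 2 ^ (Nat.card G).factorization 2 := by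
      rw [Subgroup.card_map_of_injective N.subtype_injective, hf2]
      exact hTc
    obtain ⟨g, hg⟩ := MulAction.exists_smul_eq G (Sylow.ofCard _ hT'c) S
    -- every element of `S₀` normalises a conjugate of `P`
    have hnorm' : ∀ s ∈ S₀, g⁻¹ * s * g ∈ N := by
      intro s hs
      have hs' : s ∈ (S : Subgroup G) := hs
      rw [← hg] at hs'
      obtain ⟨v, hv, hve⟩ := hs'
      obtain ⟨v', -, rfl⟩ := hv
      have h1 : g⁻¹ * s * g = (v' : G) := by
        rw [← hve]
        simp [mul_assoc]
      exact h1 ▸ v'.2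
    have hnorm : ∀ s ∈ S₀, ∃ i : ℤ, g⁻¹ * s * g * x * (g⁻¹ * s * g)⁻¹ = x ^ i := fun s hs => by
      obtain ⟨i, hi⟩ := (Subgroup.mem_normalizer_iff.1 (hnorm' s hs) x).1 (Subgroup.mem_zpowers x)
      exact ⟨i, hi.symm⟩
    obtain ⟨a, ha, b, hb, hab⟩ := syl_commutator
    obtain ⟨a, rfl⟩ := toQ_surj (hsub ha)
    obtain ⟨b, rfl⟩ := toQ_surj (hsub hb)
    obtain ⟨n, hn'⟩ := toQ_surj (hsub hns)
    rw [← hn', ← toQ_mul, ← toQ_mul, ← toQ_mul] at hab
    have hzab : z * (emb e b * emb e a) = emb e a * emb e b := by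
      calc z * (emb e b * emb e a) = emb e n * (emb e b * emb e a) := by rw [emb_eq_z e hz hn']
        _ = _ := by rw [← map_mul, ← map_mul, ← map_mul, toQ_injective hab]
    obtain ⟨i, hi⟩ := hnorm _ ⟨a, ha, rfl⟩
    obtain ⟨j, hj⟩ := hnorm _ ⟨b, hb, rfl⟩
    set A := g⁻¹ * emb e a * g with hA
    set B := g⁻¹ * emb e b * g with hB
    have hAB : A * B * x * (A * B)⁻¹ = B * A * x * (B * A)⁻¹ := by
      calc A * B * x * (A * B)⁻¹ = A * (B * x * B⁻¹) * A⁻¹ := by group
        _ = x ^ (i * j) := by rw [hj, ← conj_zpow, hi, ← zpow_mul]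
        _ = x ^ (j * i) := by rw [mul_comm]
        _ = B * (A * x * A⁻¹) * B⁻¹ := by rw [hi, ← conj_zpow, hj, ← zpow_mul]
        _ = B * A * x * (B * A)⁻¹ := by group
    have hcz : (g⁻¹ * z * g) * x * (g⁻¹ * z * g)⁻¹ = x := by
      have e1 : g⁻¹ * z * g = A * B * (B * A)⁻¹ := by
        rw [hA, hB]
        calc g⁻¹ * z * g = g⁻¹ * (z * (emb e b * emb e a)) * (emb e b * emb e a)⁻¹ * g := by group
          _ = _ := by rw [hzab]; group
      rw [e1]
      calc A * B * (B * A)⁻¹ * x * (A * B * (B * A)⁻¹)⁻¹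
          = A * B * ((B * A)⁻¹ * x * (B * A)) * (A * B)⁻¹ := by group
        _ = x := by
          have e2 : B * A * ((B * A)⁻¹ * x * (B * A)) * (B * A)⁻¹ = x := by group
          set X := (B * A)⁻¹ * x * (B * A) with hX
          have hXp : X ∈ Subgroup.zpowers x := by
            have hAn : A ∈ N := hnorm' _ ⟨a, ha, rfl⟩
            have hBn : B ∈ N := hnorm' _ ⟨b, hb, rfl⟩
            have := (Subgroup.mem_normalizer_iff''.1 (N.mul_mem hBn hAn) x).1
              (Subgroup.mem_zpowers x)
            exact this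
          obtain ⟨k, hk⟩ := hXp
          simp only at hk
          rw [← hk, ← conj_zpow, hAB, conj_zpow, hk]
          exact e2
    have hmem : g * x * g⁻¹ ∈ Subgroup.centralizer ({z} : Set G) := by
      rw [Subgroup.mem_centralizer_singleton_iff]
      calc g * x * g⁻¹ * z = g * (x * (g⁻¹ * z * g)) * g⁻¹ := by group
        _ = g * ((g⁻¹ * z * g) * x) * g⁻¹ := by rw [← (mul_inv_eq_iff_eq_mul.1 hcz)]
        _ = z * (g * x * g⁻¹) := by group
    have h48 := orderOf_dvd_natCard (⟨_, hmem⟩ : Subgroup.centralizer ({z} : Set G))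
    rw [Subgroup.orderOf_mk, card_cent e, show g * x * g⁻¹ = MulAut.conj g x by simp,
      MulEquiv.orderOf_eq, hx] at h48
    norm_num at h48
  · have hN39 : Nat.card N = 39 := by rw [hn] at hm'; omega
    have hC : N ≤ Subgroup.centralizer ({x} : Set G) := by
      refine le_of_eq (Subgroup.eq_of_le_of_card_ge hNC ?_).symm
      rw [hN39]
      refine Nat.le_of_dvd Nat.card_pos (show 13 * 3 ∣ _ from Nat.Coprime.mul_dvd_of_dvd_of_dvd
        (by norm_num) ?_ ?_)
      · rw [← hx, ← Subgroup.orderOf_mk x (Subgroup.mem_centralizer_singleton_iff.2 rfl :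
          x ∈ Subgroup.centralizer ({x} : Set G))]
        exact orderOf_dvd_natCard _
      · rw [← hy, ← Subgroup.orderOf_mk y (Subgroup.mem_centralizer_singleton_iff.2 hxy.symm :
          y ∈ Subgroup.centralizer ({x} : Set G))]
        exact orderOf_dvd_natCard _
    have hPN' : N ≤ Subgroup.centralizer ((P : Subgroup G) : Set G) := by
      intro g hg
      rw [Subgroup.mem_centralizer_iff]
      intro k hk
      rw [hPx] at hk
      obtain ⟨i, rfl⟩ := hk
      exact ((Commute.zpow_right
        (show Commute g x from Subgroup.mem_centralizer_singleton_iff.1 (hC hg)) i).symm).eq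
    have hK := (MonoidHom.ker_transferSylow_isComplement' P hPN').index_eq_card
    have hPi := (P : Subgroup G).card_mul_index
    rw [show Nat.card (P : Subgroup G) = 13 from hPc, hG] at hPi
    rcases (MonoidHom.transferSylow P hPN').normal_ker.eq_bot_or_eq_top with h | h
    · rw [h, Subgroup.card_bot] at hK
      omega
    · rw [h, Subgroup.card_top, hG] at hK
      omega

end Cfsg.Agent.L33Rec
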