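import Cfsg.Agent.InvolGL23.Model
import Cfsg.Agent.L33Rec.L33Index117.Main
import Cfsg.Agent.L33Rec.L33CollapseA.Main
import Cfsg.Agent.L33Rec.L33CollapseB.Main
import Cfsg.Agent.L33Rec.GL23Order48.Main

/-!
The presentation on generators of `GL(2,3)` and an element of order three fusing its involutions.
-/

set_option autoImplicit false

namespace Cfsg.Agent.L33Rec

open Cfsg.Agent.InvolGL23

/-- Signed words. -/
abbrev Word := List (Fin 4 × Bool)

/-- The inverse of a word when the second and third generators are involutions. -/
def linv (l : Word) : Word :=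
  l.reverse.map fun p => if p.1 = 1 ∨ p.1 = 2 then p else (p.1, !p.2)

/-- A transvection. -/
def wA : Word := [(0, true)]

/-- Its transpose. -/
def wA' : Word := [(1, true), (0, true), (1, true)]

/-- A word for `-1`. -/
def wZ : Word := [(2, true), (1, true), (2, true), (1, true)]

/-- The first reflection. -/
def wU1 : Word := [(0, false), (1, true), (0, true)]

/-- The second reflection. -/
def wU2 : Word := [(0, true), (1, true), (2, true), (1, true)]

/-- An element of order three conjugated by the fourth generator. -/
def wX (u : Word) : Word := wZ ++ [(3, true)] ++ u ++ [(3, false)]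

/-- The commutator of two words. -/
def wComm (x c : Word) : Word := x ++ c ++ linv x ++ linv c

/-- The common relators. -/
def baseWords : List Word := L33Index117.relWords.take 11

theorem index117_words : L33Index117.relWords =
    baseWords ++ [wComm (wX wU1) wA, wComm (wX wU2) wA'] := by decide +kernel

theorem collapseA_words : L33CollapseA.relWords = baseWords ++ [wComm (wX wU1) wA'] := by
  decide +kernel

theorem collapseB_words : L33CollapseB.relWords = baseWords ++ [wComm (wX wU2) wA] := by
  decide +kernel

/-- The relators of `GL(2,3)` on its three generators. -/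
theorem base_eq : baseWords =
    GL23Order48.relWords.map (List.map fun p => (p.1.castSucc, p.2)) ++
      [[(3, true), (3, true), (3, true)],
       [(3, true)] ++ wZ ++ [(3, false), (2, true)],
       [(3, true), (2, true), (3, false), (2, true), (1, true), (2, true), (1, true), (2, true)],
       [(1, true), (3, true), (1, true), (3, true)]] := by decide +kernel

/-- The matrices of the letters. -/
def letterQ : Fin 3 × Bool → Q
  | (0, true) => (1, 1, 0, 1)
  | (0, false) => (1, 2, 0, 1)
  | (1, _) => (0, 1, 1, 0)
  | (2, _) => (1, 0, 0, 2)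

/-- The matrix of a word. -/
def qval (l : List (Fin 3 × Bool)) : Q := (l.map letterQ).foldr qmul qone

theorem gl_relations : ∀ l ∈ GL23Order48.relWords, qval l = qone := by decide +kernel

theorem lift_mk_append {α H : Type*} [Group H] (f : α → H) (l l' : List (α × Bool)) :
    FreeGroup.lift f (FreeGroup.mk (l ++ l')) =
      FreeGroup.lift f (FreeGroup.mk l) * FreeGroup.lift f (FreeGroup.mk l') := by
  rw [← map_mul, FreeGroup.mul_mk]

theorem lift_mk_nil {α H : Type*} [Group H] (f : α → H) :
    FreeGroup.lift f (FreeGroup.mk []) = 1 := by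
  rw [← FreeGroup.one_eq_mk, map_one]

theorem lift_mk_single {α H : Type*} [Group H] (f : α → H) (p : α × Bool) :
    FreeGroup.lift f (FreeGroup.mk [p]) = cond p.2 (f p.1) (f p.1)⁻¹ := by
  simp [FreeGroup.lift_mk]

theorem toQ_lift (g : Fin 3 → Matrix.GeneralLinearGroup (Fin 2) (ZMod 3))
    (hg : ∀ p : Fin 3 × Bool, toQ (cond p.2 (g p.1) (g p.1)⁻¹) = letterQ p)
    (l : List (Fin 3 × Bool)) : toQ (FreeGroup.lift g (FreeGroup.mk l)) = qval l := by
  induction l with
  | nil => rw [lift_mk_nil, toQ_one]; rfl
  | cons p t ih =>
    rw [show p :: t = [p] ++ t from rfl, lift_mk_append, toQ_mul, lift_mk_single, hg, ih]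
    rfl

theorem lift_map_castSucc {H : Type*} [Group H] (f : Fin 4 → H) (l : List (Fin 3 × Bool)) :
    FreeGroup.lift f (FreeGroup.mk (l.map fun p => (p.1.castSucc, p.2))) =
      FreeGroup.lift (fun i : Fin 3 => f i.castSucc) (FreeGroup.mk l) := by
  induction l with
  | nil => simp [lift_mk_nil]
  | cons p t ih =>
    rw [List.map_cons, show (p.1.castSucc, p.2) :: t.map (fun p => (p.1.castSucc, p.2)) =
      [(p.1.castSucc, p.2)] ++ t.map (fun p => (p.1.castSucc, p.2)) from rfl, lift_mk_append, ih,
      show p :: t = [p] ++ t from rfl, lift_mk_append, lift_mk_single, lift_mk_single]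

theorem lift_linv {H : Type*} [Group H] (f : Fin 4 → H) (h1 : f 1 * f 1 = 1) (h2 : f 2 * f 2 = 1)
    (l : Word) : FreeGroup.lift f (FreeGroup.mk (linv l)) = (FreeGroup.lift f (FreeGroup.mk l))⁻¹ := by
  induction l with
  | nil => simp [linv, lift_mk_nil]
  | cons p t ih =>
    have e : linv (p :: t) = linv t ++ linv [p] := by simp [linv]
    rw [e, lift_mk_append, ih, show p :: t = [p] ++ t from rfl, lift_mk_append, mul_inv_rev]
    congr 1
    obtain ⟨i, b⟩ := p
    fin_cases i <;> cases b <;>
      simp [linv, lift_mk_single, inv_eq_of_mul_eq_one_right h1, inv_eq_of_mul_eq_one_right h2]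

theorem lift_comm {H : Type*} [Group H] (f : Fin 4 → H) (h1 : f 1 * f 1 = 1) (h2 : f 2 * f 2 = 1)
    (x c : Word) (hc : Commute (FreeGroup.lift f (FreeGroup.mk x)) (FreeGroup.lift f (FreeGroup.mk c))) :
    FreeGroup.lift f (FreeGroup.mk (wComm x c)) = 1 := by
  rw [wComm, lift_mk_append, lift_mk_append, lift_mk_append, lift_linv f h1 h2, lift_linv f h1 h2,
    hc.eq]
  group

end Cfsg.Agent.L33Rec
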